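import Cfsg.Agent.Chev.TwMultE6
import Cfsg.Agent.Chev.TwistE6F
import Cfsg.Agent.Class.FieldTransport

/-! The cover of `²E₆(q)` of degree prime to the characteristic; transport along field isomorphisms. -/

set_option autoImplicit false

namespace Cfsg.Agent.Chev.E6

open Cfsg.Lie Cfsg.Agent.Mult

theorem map_twistedE6_le {F F' : Type*} [Field F] [Field F'] (f : F →+* F') (q : ℕ) :
    (twistedE6 F q).map (Matrix.GeneralLinearGroup.map f) ≤ twistedE6 F' q := by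
  rw [Subgroup.map_le_iff_le_comap]
  refine (Subgroup.closure_le _).2 ?_
  rintro g ⟨w, hw, e⟩
  refine Subgroup.subset_closure ⟨w.map fun p => (p.1, f p.2), ?_, ?_⟩
  · rcases hw with ⟨t, ht, r, hr, rfl⟩ | ⟨t, r, hr, rfl⟩
    · exact Or.inl ⟨f t, by rw [← map_pow, ht], r, hr, rfl⟩
    · exact Or.inr ⟨f t, r, hr, by simp⟩
  · change f.mapMatrix (g : Matrix chevE6.Idx chevE6.Idx F) = _
    rw [e, ChevalleyDatum.wordMat, ChevalleyDatum.wordMat, map_list_prod, List.map_map, List.map_map]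
    exact congrArg List.prod (List.map_congr_left fun p _ => x_map f p.1 p.2)

theorem twistedE6_congr {F F' : Type*} [Field F] [Field F'] (f : F ≃+* F') (q : ℕ) :
    Nonempty (twistedE6 F q ≃* twistedE6 F' q) := by
  refine ⟨((Class.glCongr _ f).subgroupMap _).trans (MulEquiv.subgroupCongr
    (le_antisymm (map_twistedE6_le (f : F →+* F') q) fun g hg => ?_))⟩
  exact ⟨(Class.glCongr _ f).symm g, map_twistedE6_le (f.symm : F' →+* F) q ⟨g, hg, rfl⟩,
    MulEquiv.apply_symm_apply _ g⟩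

universe u

variable {K : Type u} [Field K] [Fintype K] {T : RootTable chevE6} (S : ChevSys T (xC chevE6 K))
  (φ : K →+* K) (hφ : ∀ t, φ (φ t) = t) {q : ℕ} (hq : ∀ t, φ t = t ^ q)
  (hK : Fintype.card K = q ^ 2) {T' : Type*} [Group T'] (j : T' →* chevE6.group K)
  (hj : Function.Injective j) (hr : j.range = (tw S φ hφ).data.T) (p : ℕ) [hp : Fact p.Prime]
  [hc : CharP K p]
include hq hK hj hr hp hc

theorem exists_stem_coprime : ∃ (Γ : Type u) (_ : Group Γ) (_ : Finite Γ) (σ : Γ →* T'), IsStemExtension σ ∧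
    (Nat.card σ.ker).Coprime p ∧ Nat.gcd 3 (q + 1) ≤ Nat.card σ.ker := by
  have hD : chevE6 ∈ [chevG2, chevB2, chevD4, chevF4, chevE6, chevE7, chevE8] := by simp
  have := finite_steinbergGroup (F := K) hD
  have hS := (isSt0_stGen (D := chevE6) (F := K)).isSt hD
  obtain ⟨θ, hθ⟩ := (isSt_xC (D := chevE6) (F := K)).toIsSt0.exists_lift3 isR3_xC T
  have h1 := hS.ker_eq_center T θ hθ Gs_stGen
  have hi := Lang.torY_stGen_injective hD T hS
  have h2 : (Nat.card θ.ker).Coprime p := by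
    rw [h1, isR3_stGen.center_eq T θ hθ hS Gs_stGen, Subgroup.card_map_of_injective hi]
    refine (Nat.Coprime.coprime_dvd_left (Subgroup.card_subgroup_dvd_card _) ?_)
    rw [Nat.card_fun, Nat.card_units, Nat.card_eq_fintype_card]
    obtain ⟨n, -, hn⟩ := FiniteField.card K p
    refine Nat.Coprime.pow_left _ (Nat.Coprime.coprime_dvd_right (dvd_pow_self p n.ne_zero) ?_)
    rw [hn]
    exact (Nat.coprime_self_sub_left (Nat.one_le_pow _ _ (Fact.out : p.Prime).pos)).2 (by simp)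
  have hs := surjective_of_hom θ hθ
  obtain ⟨σ, h3, h4⟩ := exists_stem_of_plift θ h1.le h2 j hj (hr.le.trans ((tw S φ hφ).data.T_le
    (fun a u hu hf => by
      obtain ⟨y, rfl, hy⟩ := exists_isPE_lift h2 (hs u)
        (isPE_of_mem (S.isPGroup_U p) (S.R.UJ_le_U _ hu))
      exact ⟨y, mem_plift hy (hr.ge ((tw S φ hφ).data.mem_T_of_UJ hu hf)), rfl⟩)
    fun a u hu hf => by
      obtain ⟨y, rfl, hy⟩ := exists_isPE_lift h2 (hs u)
        (RootBN.isPE_of_V (S.isPGroup_U p) (S.R.VJ_le_V _ hu))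
      exact ⟨y, mem_plift hy (hr.ge ((tw S φ hφ).data.mem_T_of_VJ hu hf)), rfl⟩))
  refine ⟨_, _, inferInstance, σ, h3, h2.coprime_dvd_left (h4 ▸ Subgroup.card_dvd_of_le inf_le_left), ?_⟩
  rw [h4, ← card_ker S φ hφ hq hK, ← Subgroup.card_map_of_injective hi]
  refine Subgroup.card_le_of_le ?_
  rintro _ ⟨c : Fin 6 → Kˣ, ⟨k1, k2⟩, rfl⟩
  refine ⟨by
    rw [h1, isR3_stGen.center_eq T θ hθ hS Gs_stGen]
    exact ⟨c, (Chev.tor_eq_one_iff (D := chevE6)).2 ((ChevSys.tor_eq_one_iff S).1 k1), rfl⟩, ?_⟩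
  obtain ⟨h5, -, h6, -⟩ := (mem_fixT S φ hφ).1 k2
  obtain ⟨-, h7, -, h8, -⟩ := (E6.tor_eq_one_iff S).1 k1
  have e : c = (Pi.mulSingle 2 (c 2) * Pi.mulSingle 4 (c 4)) *
      (Pi.mulSingle 0 (c 0) * Pi.mulSingle 5 (c 5)) := by
    ext i; fin_cases i <;> simp [h7, h8]
  let f : (Fin 6 → Kˣ) →* _ := (isR3_stGen (D := chevE6) (F := K)).torY hS T
  have ht : ∀ i : Fin 6, f (Pi.mulSingle i (c i)) = hh chevE6 (chevE6.stGen K) (chevE6.simple i) (c i : K) :=
    fun i => isR3_stGen.torY_mulSingle hS T i (c i)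
  have cm : ∀ r s, r < 72 ∧ s < 72 ∧ s ≠ r ∧ s ≠ chevE6.neg r ∧ chevE6.commTerms r s = [] →
      ∀ t u : K, Commute (chevE6.stGen K r t) (chevE6.stGen K s u) := fun r s h =>
    hS.toIsSt0.commute_of_commTerms h.1 h.2.1 h.2.2.1 h.2.2.2.1 h.2.2.2.2
  have mm : ∀ r s, r < 72 ∧ s < 72 ∧ s ≠ r ∧ s ≠ chevE6.neg r ∧ chevE6.commTerms r s = [] →
      ∀ t u : K, xC chevE6 K r t * xC chevE6 K s u ∈ (tw S φ hφ).data.T →
      chevE6.stGen K r t * chevE6.stGen K s u ∈ plift θ p j.range := fun r s h t u h' =>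
    mem_plift ((isPE_of_add (hS.add r h.1) t).mul_of_commute (isPE_of_add (hS.add s h.2.1) u)
      (cm r s h t u)) (by rw [map_mul, hθ r h.1, hθ s h.2.1, hr]; exact h')
  change f c ∈ _
  rw [e]
  simp only [map_mul, ht, h5, h6]
  exact mul_mem (hh_mul_hh_mem (D := chevE6) (r := 42) (s := 37) φ (cm 37 42 (by decide +kernel))
      (cm 37 29 (by decide +kernel)) (cm 34 42 (by decide +kernel)) (cm 34 29 (by decide +kernel))
      (fun t => mm 42 37 (by decide +kernel) _ _ (par_pos_mem S φ hφ (a := 2) ⟨t, rfl⟩))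
      (fun t => mm 29 34 (by decide +kernel) _ _ (par_neg_mem S φ hφ (a := 2) ⟨t, rfl⟩)) _)
    (hh_mul_hh_mem (D := chevE6) (r := 56) (s := 36) φ (cm 36 56 (by decide +kernel))
      (cm 36 15 (by decide +kernel)) (cm 35 56 (by decide +kernel)) (cm 35 15 (by decide +kernel))
      (fun t => mm 56 36 (by decide +kernel) _ _ (par_pos_mem S φ hφ (a := 3) ⟨t, rfl⟩))
      (fun t => mm 15 35 (by decide +kernel) _ _ (par_neg_mem S φ hφ (a := 3) ⟨t, rfl⟩)) _)

end Cfsg.Agent.Chev.E6
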