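import Cfsg.Agent.Mult.E62Up
import Cfsg.Agent.Mult.E62LowA
import Cfsg.Agent.MonU.TwoE6I
import Cfsg.Agent.Std2B.Ident
import Cfsg.Agent.KSG.MultCov
import Cfsg.Agent.S1070

/-! The cover `2².²E₆(2)` in the Monster and the Schur multiplier of `²E₆(2)`. -/

set_option autoImplicit false

namespace Cfsg.Agent.Mult.E62

open Cfsg Cfsg.Lie Cfsg.Spor Cfsg.Agent.Spor Cfsg.Agent.Spor.Leech Cfsg.Agent.Mon Subgroup

theorem perfect {F : Type*} [Field F] [Fintype F] (hF : Fintype.card F = 4) :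
    commutator (twistedE6 F 2) = ⊤ := by
  obtain ⟨h1, h2⟩ := S1070.result (K := F) (q := 2) Nat.prime_two.isPrimePow hF
  refine (h1.eq_bot_or_eq_top_of_normal _ inferInstance).resolve_left fun e => h2 ⟨⟨fun a b => ?_⟩⟩
  rw [← commutatorElement_eq_one_iff_mul_comm, ← Subgroup.mem_bot, ← e]
  exact Subgroup.commutator_mem_commutator trivial trivial

theorem exists_stem {G : Type} [Group G] [Finite G] {z : G} {Q : Subgroup G}
    {π : centralizer ({z} : Set G) →* Co1} {ψ : leechLattice → G} (h : If0 z Q π ψ) (F : Type)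
    [Field F] [Fintype F] (hF : Fintype.card F = 4) :
    ∃ m : centralizer ({ψ leechU, ψ x16} : Set G) →* twistedE6 F 2, IsStemExtension m ∧
      ∀ x, m x = 1 ↔ (x : G) ∈ closure ({ψ leechU, ψ x16} : Set G) := by
  have ea := TT.Eqv.refl z (ψ leechU)
  have eb := TT.Eqv.refl z (ψ x16)
  have ha := MonU.E6.A_a h ea
  have hb := MonU.E6.D_b h ea eb
  have hn := fun L => MonU.E6.nonsplit h ea eb (L := L)
  have hi := fun {H : Type} [Group H] {m : _ →* H} => MonU.E6.iso_of (m := m) h ha hb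
  have hE := fun x => MonU.E6.mem_E h ha hb (x := x)
  obtain ⟨g, g1, g2, -⟩ := h.trans_pair ha hb hb.1 ⟨ha, (CD.commD h ha hb).eq ▸ hb.2⟩
    (h.mon.mem _) (h.mon.mem _) (h.mon.mem _) (h.mon.mem _)
  generalize ψ leechU = a at *
  generalize ψ x16 = b at *
  have hc : (closure {a, b}).subgroupOf (centralizer ({a, b} : Set G)) ≤ center _ := fun x hx =>
    mem_center_iff.2 fun y => Subtype.ext
      (TT.mem_centralizer_closure_pair.2 (MonY.E0.mem_c2.1 y.2) x hx).symm
  have hN : ((closure {a, b}).subgroupOf (centralizer ({a, b} : Set G))).Normal :=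
    ⟨fun n hn g => by rwa [mem_center_iff.1 (hc hn) g, mul_inv_cancel_right]⟩
  obtain ⟨i⟩ := hi (m := QuotientGroup.mk' ((closure {a, b}).subgroupOf (centralizer ({a, b} : Set G))))
    (QuotientGroup.mk'_surjective _) (fun x => QuotientGroup.eq_one_iff x) F hF
  let m := i.toMonoidHom.comp (QuotientGroup.mk' _)
  have hs : Function.Surjective m := i.surjective.comp (QuotientGroup.mk'_surjective _)
  have hk : ∀ x, m x = 1 ↔ (x : G) ∈ closure ({a, b} : Set G) := fun x =>
    (map_eq_one_iff i i.injective).trans (QuotientGroup.eq_one_iff x)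
  have h1 : a ∈ ⁅centralizer ({a, b} : Set G), centralizer ({a, b} : Set G)⁆ := by
    by_contra n
    refine hn _ n fun k hk' => ?_
    have : m ⟨k, hk'⟩ ∈ (commutator _).map m := by
      rw [map_commutator_eq, MonoidHom.range_eq_top.2 hs]
      exact (perfect hF).ge (mem_top _)
    obtain ⟨y, hy, e⟩ := this
    refine ⟨k * (y : G)⁻¹, (hk (⟨k, hk'⟩ * y⁻¹)).1 (by rw [map_mul, map_inv, e, mul_inv_cancel]),
      y, ?_, by simp⟩
    rw [← map_subtype_commutator]
    exact ⟨y, hy, rfl⟩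
  have h2 : b ∈ ⁅centralizer ({a, b} : Set G), centralizer ({a, b} : Set G)⁆ := by
    have l : (centralizer ({a, b} : Set G)).map (MulAut.conj g).toMonoidHom ≤ centralizer {a, b} := by
      rintro _ ⟨x, hx, rfl⟩
      obtain ⟨x1, x2⟩ := MonY.E0.mem_c2.1 hx
      refine MonY.E0.mem_c2.2 ⟨?_, ?_⟩
      · rw [← g2]
        change g * x * g⁻¹ * _ = _ * (g * x * g⁻¹)
        rw [conj_mul, conj_mul, x2]
      · rw [← g1]
        change g * x * g⁻¹ * _ = _ * (g * x * g⁻¹)
        rw [conj_mul, conj_mul, x1]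
    refine commutator_mono l l ?_
    rw [← map_commutator]
    exact ⟨a, h1, g1⟩
  refine ⟨m, ⟨hs, fun x hx => hc ((hk x).1 hx), fun x hx => ?_⟩, hk⟩
  have : (x : G) ∈ ⁅centralizer ({a, b} : Set G), centralizer ({a, b} : Set G)⁆ :=
    (closure_le _).2 (by rintro _ (rfl | rfl); exacts [h1, h2]) ((hk x).1 hx)
  rw [← map_subtype_commutator] at this
  obtain ⟨y, hy, e⟩ := this
  exact Subtype.ext e ▸ hy

theorem arith {n k : ℕ} (h0 : 0 < n) (h1 : n ≤ 12) (h2 : 4 ∣ n) (h3 : k ∣ n) (h4 : k.Coprime 2)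
    (h5 : 3 ≤ k) : 3 ∣ k := by
  have := Nat.le_of_dvd h0 h3
  have h6 := Nat.coprime_two_right.1 h4
  rw [Nat.odd_iff] at h6
  obtain rfl | rfl | rfl : n = 4 ∨ n = 8 ∨ n = 12 := by omega
  all_goals interval_cases k <;> omega

theorem multiplier' {F : Type} [Field F] [Fintype F] (hF : Fintype.card F = 4) :
    HasSchurMultiplier (twistedE6 F 2) (Multiplicative (ZMod 3 × ZMod 2 × ZMod 2)) := by
  have : Finite (twistedE6 F 2) := inferInstance
  have hle := mcard_le hF
  obtain ⟨m, hm, hk⟩ := exists_stem Mon.if1.toIf0 _ hF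
  have h := Mon.if1.toIf0
  have ea := TT.Eqv.refl Mon.zG (Mon.psi leechU)
  have ha := MonU.E6.A_a h ea
  have hb := MonU.E6.D_b h ea (TT.Eqv.refl _ _)
  have hK := MonU.E6.klein h ha hb
  obtain ⟨i⟩ := IsKleinFour.nonempty_mulEquiv (G₁ := Multiplicative (ZMod 2 × ZMod 2))
    (G₂ := closure ({Mon.psi leechU, Mon.psi x16} : Set Mon.MG))
  have o2 : KSG.Pc.MultOnto (twistedE6 F 2) (Multiplicative (ZMod 2 × ZMod 2)) :=
    KSG.Pc.multOnto_of_injective hm.1 hm.2.1 ((inclusion (MonU.E6.E_le h ha hb)).comp i.toMonoidHom)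
      ((inclusion_injective (MonU.E6.E_le h ha hb)).comp i.injective) (by
        rintro _ ⟨x, rfl⟩
        have := (hk _).2 (show ((inclusion (MonU.E6.E_le h ha hb) (i x) : _) : Mon.MG) ∈ _ from (i x).2)
        exact ⟨this, hm.2.2 this⟩)
  have hM := FGS.hasSchurMultiplier_freePres (twistedE6 F 2)
  have h4 : 4 ∣ mcard (twistedE6 F 2) := by
    obtain ⟨f, hf⟩ := o2 _ hM
    exact (show 4 = Nat.card (Multiplicative (ZMod 2 × ZMod 2)) by simp) ▸ card_dvd_of_surjective f hf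
  obtain ⟨S, φ, hφ, h', hT⟩ := Chev.E6.exists_data (q := 2) Nat.prime_two.isPrimePow hF
  have : CharP F 2 := charP_of_card_eq_prime_pow (f := 2) hF
  obtain ⟨Γ, _, _, σ, s1, s2, s3⟩ := Chev.E6.exists_stem_coprime S φ hφ h' hF _
    (inclusion_injective Chev.E6.le_group) (Chev.TwistData.range_inclusion _ _ hT) 2
  have s4 := card_ker_inf_commutator_dvd s1.1 s1.2.1
  rw [inf_eq_left.2 s1.2.2] at s4
  have s5 : 3 ∣ Nat.card σ.ker := arith mcard_pos hle h4 s4 s2 s3
  obtain ⟨x, hx⟩ := exists_prime_orderOf_dvd_card' 3 (hp := ⟨Nat.prime_three⟩) s5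
  have o3 := KSG.Pc.multOnto_of_orderOf s1.1 s1.2.1 ((orderOf_coe x).trans hx) x.2 (s1.2.2 x.2)
  obtain ⟨f, hf⟩ := (o3.prod o2 (by simp; decide)).mulProd _ hM
  have := FGS.HasSchurMultiplier.finite hM
  exact FGS.HasSchurMultiplier.congr_right hM (MulEquiv.ofBijective f
    ((Nat.bijective_iff_surjective_and_card f).2 ⟨hf, le_antisymm (hle.trans (by simp))
      (Nat.card_le_card_of_surjective f hf)⟩))

theorem multiplier {K : Type*} [Field K] [Fintype K] (hK : Fintype.card K = 4) :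
    HasSchurMultiplier (twistedE6 K 2) (Multiplicative (ZMod 3 × ZMod 2 × ZMod 2)) := by
  obtain ⟨F, _, _, hF⟩ : ∃ (F : Type) (_ : Field F) (_ : Fintype F), Fintype.card F = 4 :=
    ⟨Class.GF4, inferInstance, inferInstance, Class.card_GF4⟩
  obtain ⟨e⟩ := Chev.E6.twistedE6_congr (FiniteField.ringEquivOfCardEq (hF.trans hK.symm)) 2
  exact FGS.HasSchurMultiplier.congr_left (multiplier' hF) e

end Cfsg.Agent.Mult.E62
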