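import Cfsg.Agent.Mult.E62GT

/-! The relations between the root elements of `²E₆(2)`. -/

set_option autoImplicit false

namespace Cfsg.Agent.Mult.E62

open Cfsg.Lie Cfsg.Agent.Chev
open scoped commutatorElement

theorem exists_omega {K : Type*} [Field K] [Fintype K] (hK : Fintype.card K = 4) :
    (2 : K) = 0 ∧ ∃ ω : K, ω * ω = ω + 1 ∧ ∀ t : K, t = 0 ∨ t = 1 ∨ t = ω ∨ t = ω + 1 := by
  classical
  have h4 : ((4 : ℕ) : K) = 0 := hK ▸ FiniteField.cast_card_eq_zero K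
  have h2 : (2 : K) = 0 := by
    have : (2 : K) * 2 = 0 := by rw [← h4]; norm_num
    exact (mul_self_eq_zero.1 this)
  have hp : ∀ t : K, t ^ 4 = t := fun t => hK ▸ FiniteField.pow_card t
  obtain ⟨ω, hω⟩ : ∃ ω : K, ω ∉ ({0, 1} : Finset K) := by
    by_contra h
    push Not at h
    have := Finset.card_le_card (show (Finset.univ : Finset K) ⊆ {0, 1} from fun t _ => h t)
    have h3 := Finset.card_le_two (a := (0 : K)) (b := 1)
    rw [Finset.card_univ, hK] at this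
    omega
  simp only [Finset.mem_insert, Finset.mem_singleton, not_or] at hω
  have key : ∀ t : K, t ≠ 0 → t ≠ 1 → t * t = t + 1 := fun t h0 h1 => by
    have h5 : t * ((t - 1) * (t * t - (t + 1))) = 0 := by
      linear_combination hp t + (t - t ^ 3) * h2
    rcases mul_eq_zero.1 h5 with h | h
    · exact absurd h h0
    rcases mul_eq_zero.1 h with h | h
    · exact absurd (sub_eq_zero.1 h) h1
    · exact sub_eq_zero.1 h
  have h6 := key ω hω.1 hω.2
  refine ⟨h2, ω, h6, fun t => ?_⟩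
  by_cases h0 : t = 0
  · exact .inl h0
  by_cases h1 : t = 1
  · exact .inr (.inl h1)
  have h7 : (t - ω) * (t - (ω + 1)) = 0 := by
    linear_combination key t h0 h1 + h6 + (1 + ω - t * ω) * h2
  rcases mul_eq_zero.1 h7 with h | h
  · exact .inr (.inr (.inl (sub_eq_zero.1 h)))
  · exact .inr (.inr (.inr (sub_eq_zero.1 h)))

theorem comm_of_swap {G : Type*} [Group G] {a b c : G} (h : b * a = a * b * c) (ha : Commute c a)
    (hb : Commute c b) (hc : c * c = 1) : ⁅a, b⁆ = c := by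
  have e : a * b = b * a * c := by rw [h, mul_assoc, hc, mul_one]
  rw [commutatorElement_def, e, mul_assoc (b * a) c, ha.inv_right.eq, mul_assoc, mul_assoc a⁻¹,
    hb.inv_right.eq]
  group

section

variable {K : Type*} [Field K] {G : Type*} [Group G] {T : RootTable chevE6} {x : ℕ → K → G}
  (S : ChevSys T x) (h2 : (2 : K) = 0)
include S

theorem x_add {r : ℕ} (hr : r < 72) (t u : K) : x r t * x r u = x r (t + u) := S.st.add r hr t u

theorem x_cm {r s : ℕ} (hr : r < 72) (hs : s < 72) (h : pn r s = 0) (t u : K) :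
    Commute (x r t) (x s u) := E6.comm S r s ⟨hr, hs, (tab_pn r hr s hs).1 h⟩ t u

include h2

omit S in
theorem neg_eq' (t : K) : -t = t := by linear_combination (-t) * h2

omit S in
theorem cast_pm {e : ℤ} (h : e = 1 ∨ e = -1) : (e : K) = 1 := by
  rcases h with rfl | rfl
  · simp
  · rw [Int.cast_neg, Int.cast_one, neg_eq' h2]

theorem x_sq {r : ℕ} (hr : r < 72) (t : K) : x r t * x r t = 1 := by
  rw [x_add S hr, ← two_mul, h2, zero_mul, S.st.x_zero hr]

theorem x_sw {r s : ℕ} (hr : r < 72) (hs : s < 72) (h : pn r s = 1) (t u : K) :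
    x s u * x r t = x r t * x s u * x (ad r s) (t * u) := by
  obtain ⟨a1, a2, -, -, -, a3⟩ := (tab_pn r hr s hs).2 h
  rw [S.st.comm r s hr hs a1 a2, ChevalleyDatum.commWord]
  rcases a3 with e | e <;> simp [e, neg_eq' h2]

theorem n_conj (j : Fin 6) {s : ℕ} (hs : s < 72) (t : K) :
    nn chevE6 x (chevE6.simple j) 1 * x s t * (nn chevE6 x (chevE6.simple j) 1)⁻¹ =
      x (chevE6.reflectRoot j s) t := by
  obtain ⟨η, hη⟩ := S.st.nconj j
  obtain ⟨a1, -, a2⟩ := hη s hs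
  rw [a2, cast_pm h2 a1, one_mul]

variable (φ : K →+* K) (hφ : ∀ t, φ (φ t) = t)

theorem sig_x' {r : ℕ} (hr : r < 72) (t : K) : (E6.tw S φ hφ).σ (x r t) = x (rh r) (φ t) := by
  rw [(E6.tw S φ hφ).hσ r hr, (rh_spec r hr).1]
  change x (rhoE6 r) ((epsE6 r : K) * φ t) = _
  rw [cast_pm h2 (tab_wr r hr).2.2.1, one_mul]

theorem sig_nn {r : ℕ} (hr : r < 72) : (E6.tw S φ hφ).σ (nn chevE6 x r 1) = nn chevE6 x (rh r) 1 := by
  rw [(E6.tw S φ hφ).σ_nn hr, (rh_spec r hr).1]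
  change nn chevE6 x (rhoE6 r) ((epsE6 r : K) * φ 1) = _
  rw [cast_pm h2 (tab_wr r hr).2.2.1, one_mul, map_one]

end

theorem exists_gs {K : Type*} [Field K] [Fintype K] (hK : Fintype.card K = 4) {G : Type*} [Group G]
    {T : RootTable chevE6} {x : ℕ → K → G} (S : ChevSys T x) (φ : K →+* K) (hφ : ∀ t, φ (φ t) = t)
    (hq : ∀ t, φ t = t ^ 2) : ∃ (ω : K) (h : G), GS φ ω (E6.tw S φ hφ).data.Fix
      (fun r t => x r t * x (rhoE6 r) (φ t)) h := by
  obtain ⟨h2, ω, hω, hall⟩ := exists_omega hK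
  have h3 : ω ^ 3 = 1 := by linear_combination (ω + 1) * hω + ω * h2
  have h0 : ω ≠ 0 := fun e => by simp [e] at h3
  let w : Kˣ := Units.mk0 ω h0
  have hw : w ^ (3 : ℤ) = 1 := Units.ext (by simpa [w, zpow_ofNat] using h3)
  let c : Fin 6 → Kˣ := ![w, 1, 1, 1, 1, w ^ 2]
  have hc : c ∈ (E6.tw S φ hφ).fixT := (E6.mem_fixT S φ hφ).2 (by simp [c, w, hq])
  have hchi : ∀ r < 72, (chi chevE6 r c : K) = ω ^ ex r := fun r hr => by
    have e : chi chevE6 r c = w ^ (ex r : ℤ) := by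
      rw [E6.chi_eq r (fun i => chevE6.cartan i r) (fun _ => rfl)]
      obtain ⟨k, hk⟩ := Int.dvd_of_emod_eq_zero (tab_wr r hr).1
      have : chevE6.cartan 0 r + 2 * chevE6.cartan 5 r = ex r + 3 * k := by omega
      simp only [c, Matrix.cons_val, one_zpow, mul_one]
      rw [← zpow_natCast w 2, ← zpow_mul, ← zpow_add]
      change w ^ (chevE6.cartan 0 r + 2 * chevE6.cartan 5 r) = _
      rw [this, zpow_add, zpow_mul, hw, one_zpow, mul_one]
    rw [e, zpow_natCast]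
    simp [w]
  have hmod : ∀ a b : ℕ, a % 3 = b % 3 → ω ^ a = ω ^ b := fun a b h => by
    rw [pow_eq_pow_mod a h3, h, ← pow_eq_pow_mod b h3]
  have hρ : ∀ r < 72, rhoE6 r = rh r := fun r hr => (rh_spec r hr).1.symm
  have lt : ∀ r < 72, rh r < 72 := fun r hr => (rh_spec r hr).2.1
  have rr : ∀ r < 72, rh (rh r) = r := fun r hr => (rh_spec r hr).2.2.1
  have c0 : ∀ r < 72, ∀ t u, Commute (x r t) (x (rh r) u) := fun r hr =>
    x_cm S hr (lt r hr) (rh_spec r hr).2.2.2.1.2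
  have lg : ∀ r < 72, rh r = r → x r ω * x (rhoE6 r) (φ ω) = x r 1 := fun r hr h => by
    rw [hρ r hr, h, x_add S hr, hq]
    congr 1
    linear_combination hω + ω * h2
  have hH : ∀ n ∈ S.R.N, Commute (S.tor c) (n * S.tor c * n⁻¹) := fun n hn => by
    refine S.H_comm (S.tor_mem c) ?_
    have h1 := S.R.H_le_N (S.tor_mem c)
    have h4 : S.R.π ⟨_, h1⟩ = 1 := (S.R.π_eq_one_iff _).2 (S.tor_mem c)
    exact (S.R.π_eq_one_iff (⟨n, hn⟩ * ⟨_, h1⟩ * ⟨n, hn⟩⁻¹)).1 (by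
      rw [map_mul, map_mul, h4, map_inv, mul_one, mul_inv_cancel])
  refine ⟨ω, S.tor c, h2, hω, fun t => by rw [hq, sq], hall, fun r hr t => ?_, fun r hr s t => ?_,
    fun r hr t => ?_, fun r hr t e => ?_, fun r hr s hs h t u => ?_, fun r hr s hs h t u => ?_,
    fun r hr l hl h t => ?_, fun r hr l hl h => ?_, (E6.tw S φ hφ).σ_tor_of_mem hc,
    fun r hr t => ?_, fun i hi => ?_⟩
  · change (E6.tw S φ hφ).σ _ = x r t * x (rhoE6 r) (φ t)
    rw [hρ r hr, map_mul, sig_x' S h2 φ hφ hr, sig_x' S h2 φ hφ (lt r hr), rr r hr, hφ, (c0 r hr _ _).eq]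
  · simp only [hρ r hr]
    rw [map_add, ← x_add S hr, ← x_add S (lt r hr), (c0 r hr t (φ s)).symm.mul_mul_mul_comm]
  · simp only [hρ r hr, hρ _ (lt r hr)]
    rw [rr r hr, hφ, (c0 r hr _ _).eq]
  · simp only [hρ r hr] at e
    split_ifs with h
    · rw [h, x_add S hr] at e
      have := S.nd.eq_zero_of_x_eq_one (T.lt_iff.1 hr) e
      linear_combination this - t * h2
    · obtain ⟨-, -, -, a1, a2, -⟩ := tab_wr r hr
      obtain ⟨-, -, -, -, a3, -⟩ := tab_wr _ (lt r hr)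
      have e' : x r t * x (rh r) (φ t) = x r 0 * x (rh r) 0 := by
        rw [e, S.st.x_zero hr, S.st.x_zero (lt r hr), one_mul]
      have hn : [r, rh r].Nodup := by simpa using Ne.symm h
      by_cases h5 : 36 ≤ r
      · exact (S.inj₂ T.nil_pos ((E6.pos_iff r hr).2 h5) ((E6.pos_iff _ (lt r hr)).2 (a1.2 h5)) hn e').1
      · exact (S.inj₂ T.nil_neg (a2.2 (by omega)) (a3.2 (by omega)) hn e').1
  · simp only [hρ r hr, hρ s hs]
    refine ((x_cm S hr hs h.1 _ _).mul_right (x_cm S hr (lt s hs) h.2 _ _)).mul_left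
      ((x_cm S (lt r hr) hs ?_ _ _).mul_right (x_cm S (lt r hr) (lt s hs) ?_ _ _))
    · rw [← h.2, ← (tab_rh r hr _ (lt s hs)).1, rr s hs]
    · rw [(tab_rh r hr s hs).1, h.1]
  · obtain ⟨b1, b2, b3, -⟩ := tab_rh r hr s hs
    obtain ⟨b4, b5, b6⟩ := b3 h
    obtain ⟨-, -, hk, b7, b8, -⟩ := (tab_pn r hr s hs).2 h.2.2
    have p1 : ∀ a < 72, ∀ b < 72, pn a (rh b) = 0 → pn (rh a) b = 0 := fun a ha b hb e => by
      rw [← e, ← (tab_rh a ha _ (lt b hb)).1, rr b hb]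
    have p2 : ∀ a < 72, ∀ b < 72, pn a b = 0 → pn (rh a) (rh b) = 0 := fun a ha b hb e => by
      rw [(tab_rh a ha b hb).1, e]
    simp only [hρ r hr, hρ s hs, hρ _ hk]
    have s1 := x_sw S h2 hr hs h.2.2 t u
    have s2 := x_sw S h2 (lt r hr) (lt s hs) (b1.trans h.2.2) (φ t) (φ u)
    rw [b2 h.2.2, ← map_mul] at s2
    have k1 := fun a (ha : a < 72) (e : pn (ad r s) a = 0) v => x_cm S hk ha e (t * u) v
    have k2 := fun a (ha : a < 72) (e : pn (rh (ad r s)) a = 0) v => x_cm S (lt _ hk) ha e (φ (t * u)) v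
    refine comm_of_swap ?_ ?_ ?_ ?_
    · rw [(x_cm S hr (lt s hs) b4 t (φ u)).symm.mul_mul_mul_comm, s1, s2,
        (x_cm S (lt r hr) hs (p1 r hr s hs b4) (φ t) u).mul_mul_mul_comm,
        ((k1 _ (lt r hr) b5 _).mul_right (k1 _ (lt s hs) b6 _)).mul_mul_mul_comm]
    · exact ((k1 r hr b7 _).mul_right (k1 _ (lt r hr) b5 _)).mul_left
        ((k2 r hr (p1 _ hk r hr b5) _).mul_right (k2 _ (lt r hr) (p2 _ hk r hr b7) _))
    · exact ((k1 s hs b8 _).mul_right (k1 _ (lt s hs) b6 _)).mul_left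
        ((k2 s hs (p1 _ hk s hs b6) _).mul_right (k2 _ (lt s hs) (p2 _ hk s hs b8) _))
    · rw [(c0 _ hk _ _).symm.mul_mul_mul_comm, x_sq S h2 hk, x_sq S h2 (lt _ hk), one_mul]
  · obtain ⟨b1, b2, -, b3⟩ := tab_rh r hr l hl
    obtain ⟨b4, b5, b6, b7⟩ := b3 h
    obtain ⟨-, -, hk, -, b8, -⟩ := (tab_pn r hr l hl).2 h.2.2
    obtain ⟨-, -, hm, -⟩ := (tab_pn _ (lt r hr) _ hk).2 b4
    rw [b5] at hm
    rw [h.2.1] at b1 b2
    obtain ⟨-, -, -, -, b9, -⟩ := (tab_pn _ (lt r hr) l hl).2 (b1.trans h.2.2)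
    rw [b2 h.2.2] at b9
    simp only [lg l hl h.2.1, hρ r hr, hρ _ hk, hρ _ hm, b6]
    have s1 := x_sw S h2 hr hl h.2.2 t 1
    have s2 := x_sw S h2 (lt r hr) hl (b1.trans h.2.2) (φ t) 1
    have s3 := x_sw S h2 (lt r hr) hk b4 (φ t) t
    rw [b2 h.2.2, mul_one] at s2
    rw [mul_one] at s1
    rw [b5] at s3
    have e1 : x l 1 * x r t * (x l 1)⁻¹ = x r t * x (ad r l) t := by
      rw [s1, mul_assoc (x r t), (x_cm S hk hl b8 t 1).symm.eq]; group
    have e2 : x l 1 * x (rh r) (φ t) * (x l 1)⁻¹ = x (rh r) (φ t) * x (rh (ad r l)) (φ t) := by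
      rw [s2, mul_assoc (x (rh r) (φ t)), (x_cm S (lt _ hk) hl b9 (φ t) 1).symm.eq]; group
    have e3 : ω * (t * φ t) + φ (ω * (t * φ t)) = φ t * t := by
      rw [map_mul, map_mul, hφ, hq ω]
      linear_combination (t * φ t) * hω + (ω * t * φ t) * h2
    rw [x_add S hm, e3, ← conj_mul, e1, e2, mul_assoc, ← mul_assoc (x (ad r l) t), s3,
      mul_assoc _ (x _ (φ t * t)), (x_cm S hm (lt _ hk) b7 _ _).eq]
    simp only [mul_assoc]
  · obtain ⟨-, b2, -⟩ := tab_rh r hr l hl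
    obtain ⟨-, -, hk, b7, b8, -⟩ := (tab_pn r hr l hl).2 h.2.2
    have b3 := b2 h.2.2
    rw [h.1, h.2.1] at b3
    simp only [lg l hl h.2.1, lg r hr h.1, lg _ hk b3.symm]
    exact comm_of_swap (by simpa using x_sw S h2 hr hl h.2.2 1 1) (x_cm S hk hr b7 _ _)
      (x_cm S hk hl b8 _ _) (x_sq S h2 hk _)
  · simp only [hρ r hr]
    rw [← conj_mul, S.tor_conj c (T.lt_iff.1 hr), S.tor_conj c (T.lt_iff.1 (lt r hr)), hchi r hr,
      hchi _ (lt r hr), map_mul, map_pow, hq ω, ← pow_mul, hmod _ _ (tab_wr r hr).2.1]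
  · have fin : ∀ n ∈ S.R.N, (E6.tw S φ hφ).σ n = n → (∀ r < 72, ∀ t, n * x r t * n⁻¹ = x (wr i r) t) →
        ∃ n ∈ (E6.tw S φ hφ).data.Fix, Commute (S.tor c) (n * S.tor c * n⁻¹) ∧ ∀ r < 72, ∀ t,
          n * (x r t * x (rhoE6 r) (φ t)) * n⁻¹ = x (wr i r) t * x (rhoE6 (wr i r)) (φ t) :=
      fun n h1 h4 h5 => ⟨n, h4, hH n h1, fun r hr t => by
        obtain ⟨-, -, -, -, -, a1, a2⟩ := tab_wr r hr
        have hw : wr i r < 72 := by
          rw [(a2 i hi).2]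
          split_ifs
          exacts [a1 _, (tab_wr _ (a1 _)).2.2.2.2.2.1 _]
        rw [← conj_mul, hρ r hr, hρ _ hw, h5 r hr, h5 _ (lt r hr), (a2 i hi).1]⟩
    by_cases h : i < 2
    · refine fin _ (S.nn_mem (nd i).1) ?_ fun r hr t => ?_
      · have : chevE6.simple (nd i).1 < 72 ∧ rh (chevE6.simple (nd i).1) = chevE6.simple (nd i).1 := by
          interval_cases i <;> decide +kernel
        rw [sig_nn S h2 φ hφ this.1, this.2]
      · rw [n_conj S h2 _ hr, ((tab_wr r hr).2.2.2.2.2.2 i hi).2, if_pos h]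
    · refine fin _ (mul_mem (S.nn_mem (nd i).1) (S.nn_mem (nd i).2)) ?_ fun r hr t => ?_
      · have : ∃ a < 72, ∃ b < 72, chevE6.simple (nd i).1 = a ∧ chevE6.simple (nd i).2 = b ∧ rh a = b ∧
            rh b = a ∧ chevE6.neg a < 72 ∧ chevE6.neg b < 72 ∧ pn a b = 0 ∧ pn a (chevE6.neg b) = 0 ∧
            pn (chevE6.neg a) b = 0 ∧ pn (chevE6.neg a) (chevE6.neg b) = 0 := by
          obtain rfl | rfl : i = 2 ∨ i = 3 := by omega
          · exact ⟨42, by decide, 37, by decide, by decide +kernel⟩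
          · exact ⟨56, by decide, 36, by decide, by decide +kernel⟩
        obtain ⟨a, ha, b, hb, e1, e2, e3, e4, ha', hb', p1, p2, p3, p4⟩ := this
        rw [e1, e2, map_mul, sig_nn S h2 φ hφ ha, sig_nn S h2 φ hφ hb, e3, e4]
        have q : ∀ k < 72, pn k b = 0 → pn k (chevE6.neg b) = 0 → ∀ v,
            Commute (x k v) (nn chevE6 x b 1) := fun k hk q1 q2 v =>
          ((x_cm S hk hb q1 _ _).mul_right (x_cm S hk hb' q2 _ _)).mul_right (x_cm S hk hb q1 _ _)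
        exact (((q a ha p1 p2 _).mul_left (q _ ha' p3 p4 _)).mul_left (q a ha p1 p2 _)).symm.eq
      · rw [mul_inv_rev, ((tab_wr r hr).2.2.2.2.2.2 i hi).2, if_neg h,
          ← n_conj S h2 _ ((tab_wr r hr).2.2.2.2.2.1 _), ← n_conj S h2 _ hr]
        simp only [mul_assoc]

end Cfsg.Agent.Mult.E62
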