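import Cfsg.Agent.Mult.E62Def

/-! Combinatorics of the roots of `²E₆`. -/

set_option autoImplicit false
set_option synthInstance.maxSize 4096

namespace Cfsg.Agent.Mult.E62

open Cfsg.Agent.Chev

theorem sm_spec : ∀ r < 72, ∀ s < 72, Sm r s → ad r s < 72 ∧ Cm r (ad r s) ∧ Cm s (ad r s) ∧
    ex (ad r s) = (ex r + ex s) % 3 ∧ Sm (rh r) (rh s) ∧ ad (rh r) (rh s) = rh (ad r s) ∧
    ∀ i < 4, Sm (wr i r) (wr i s) ∧ ad (wr i r) (wr i s) = wr i (ad r s) := by decide +kernel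

theorem sl_spec : ∀ r < 72, ∀ l < 72, Sl r l → ad r l < 72 ∧ rh (ad r l) ≠ ad r l ∧
    ex (ad r l) = ex r ∧ Sm r (rh (ad r l)) ∧ rh (ad r (rh (ad r l))) = ad r (rh (ad r l)) ∧
    Cm (ad r l) (ad r (rh (ad r l))) := by decide +kernel

theorem ll_spec : ∀ r < 72, ∀ l < 72, Ll r l → ad r l < 72 ∧ rh (ad r l) = ad r l ∧
    Cm (ad r l) r ∧ Cm (ad r l) l ∧ sb (ad r l) r = l ∧ Ll l r := by decide +kernel

theorem la_spec : ∀ k < 72, rh k = k → la k < 72 ∧ sb k (la k) < 72 ∧ Ll (la k) (sb k (la k)) ∧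
    ad (la k) (sb k (la k)) = k := by decide +kernel

theorem wr_spec : ∀ i < 4, ∀ r < 72, wr i r < 72 ∧ wr i (wr i r) = r ∧
    (rh (wr i r) = wr i r ↔ rh r = r) := by decide +kernel

/-- A decomposition for Milnor's trick. -/
def Mi (r s a : ℕ) : Prop := sb r a < 72 ∧ Sm a (sb r a) ∧ ad a (sb r a) = r ∧ Cm a s ∧ Cm (sb r a) s

instance instDecMi (r s a : ℕ) : Decidable (Mi r s a) := inferInstanceAs (Decidable (_ ∧ _))

theorem ll_mi : ∀ r < 72, ∀ s < 72, rh r = r → rh s = s → Cm r s → ∃ a < 72, Mi r s a := by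
  decide +kernel

theorem ss_mi : ∀ r < 72, ∀ s < 72, rh r ≠ r → rh s ≠ s → Cm r s → ∃ a < 72, Mi r s a ∨
    (sb r a < 72 ∧ Sl a (sb r a) ∧ ad a (sb r a) = r ∧ Cm a s ∧ Cm (sb r a) s ∧
      Cm s (ad a (rh r))) := by decide +kernel

/-- Comparison of a short and a long decomposition of a long root. -/
def Cp (a b l l' : ℕ) : Prop := sb l a < 72 ∧ Sm a (sb l a) ∧ ad a (sb l a) = l ∧ Cm a l' ∧
  Sl (sb l a) l' ∧ ad (sb l a) l' = b ∧ Cm a (ad (sb l a) (rh b)) ∧ Cm (sb l a) (ad a b)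

instance instDecCp (a b l l' : ℕ) : Decidable (Cp a b l l') := inferInstanceAs (Decidable (_ ∧ _))

theorem cp_spec : ∀ a < 72, ∀ b < 72, Sm a b → rh (ad a b) = ad a b → ∀ l < 72,
    Ll l (sb (ad a b) l) → ad l (sb (ad a b) l) = ad a b →
    Cp a b l (sb (ad a b) l) ∨ Cp a b (sb (ad a b) l) l := by decide +kernel

theorem orb_spec : ∀ r < 72, ∀ s < 72, Sm r s → rh (ad r s) ≠ ad r s → (r = 66 ∧ s = 15) ∨
    (r = rh 66 ∧ s = rh 15) ∨ ∃ i < 4, 32 * ht (wr i r) + ht (wr i s) < 32 * ht r + ht s := by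
  decide +kernel

/-- A positive root of higher level. -/
def Hi (s k : ℕ) : Prop := 36 ≤ k ∧ E6.kap s < E6.kap k

instance instDecHi (s k : ℕ) : Decidable (Hi s k) := inferInstanceAs (Decidable (_ ∧ _))

theorem pos_spec : ∀ r < 72, ∀ s < 72, 36 ≤ r → 36 ≤ s → E6.kap r < E6.kap s → Cm r s ∨
    (Sm r s ∧ Hi s (ad r s)) ∨ (Sm r (rh s) ∧ Hi s (ad r (rh s))) ∨
    (Sl r s ∧ Hi s (ad r s) ∧ Hi s (ad r (rh (ad r s)))) ∨
    (Sl s r ∧ Hi s (ad s r) ∧ Hi s (ad s (rh (ad s r)))) ∨ (Ll r s ∧ Hi s (ad r s)) := by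
  decide +kernel

theorem cm_symm : ∀ r < 72, ∀ s < 72, Cm r s → Cm s r := by decide +kernel

end Cfsg.Agent.Mult.E62
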