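import Cfsg.Agent.Mult.E62Def

/-! Table facts on the roots of type `E₆` used for the relations in `²E₆(2)`. -/

set_option autoImplicit false

namespace Cfsg.Agent.Mult.E62

open Cfsg.Lie Cfsg.Agent.Chev

set_option synthInstance.maxSize 2048 in
theorem tab_pn : ∀ r < 72, ∀ s < 72, (pn r s = 0 → commMod chevE6 0 r s = true) ∧
    (pn r s = 1 → s ≠ r ∧ s ≠ chevE6.neg r ∧ ad r s < 72 ∧ pn (ad r s) r = 0 ∧ pn (ad r s) s = 0 ∧
      (chevE6.commTerms r s = [(ad r s, 1, 1, 1)] ∨ chevE6.commTerms r s = [(ad r s, -1, 1, 1)])) := by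
  decide +kernel

set_option synthInstance.maxSize 2048 in
theorem tab_rh : ∀ r < 72, ∀ s < 72, pn (rh r) (rh s) = pn r s ∧
    (pn r s = 1 → ad (rh r) (rh s) = rh (ad r s)) ∧
    (Sm r s → pn r (rh s) = 0 ∧ pn (ad r s) (rh r) = 0 ∧ pn (ad r s) (rh s) = 0) ∧
    (Sl r s → pn (rh r) (ad r s) = 1 ∧ ad (rh r) (ad r s) = ad r (rh (ad r s)) ∧
      rh (ad r (rh (ad r s))) = ad r (rh (ad r s)) ∧ pn (ad r (rh (ad r s))) (rh (ad r s)) = 0) := by
  decide +kernel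

/-- The nodes of the four orbits. -/
def nd (i : ℕ) : Fin 6 × Fin 6 := [(1, 1), (3, 3), (2, 4), (0, 5)].getD i (0, 0)

set_option synthInstance.maxSize 2048 in
theorem tab_wr : ∀ r < 72, (chevE6.cartan 0 r + 2 * chevE6.cartan 5 r - ex r) % 3 = 0 ∧
    ex (rh r) % 3 = 2 * ex r % 3 ∧ (epsE6 r = 1 ∨ epsE6 r = -1) ∧ (36 ≤ rh r ↔ 36 ≤ r) ∧
    (chevE6.IsNegRoot r ↔ r < 36) ∧ (∀ j : Fin 6, chevE6.reflectRoot j r < 72) ∧
    ∀ i < 4, rh (wr i r) = wr i (rh r) ∧ wr i r = if i < 2 then chevE6.reflectRoot (nd i).1 r else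
      chevE6.reflectRoot (nd i).1 (chevE6.reflectRoot (nd i).2 r) := by
  decide +kernel

end Cfsg.Agent.Mult.E62
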