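import Cfsg.Agent.Mult.E62C

/-! Canonical lifts of the root elements of `²E₆(2)` to a central extension. -/

set_option autoImplicit false

namespace Cfsg.Agent.Mult.E62

open Cfsg.Lie Cfsg.Agent.Chev
open scoped commutatorElement

variable {K G Γ : Type*} [Field K] [Group G] [Group Γ] {φ : K →+* K} {ω : K}
  {F : Subgroup G} {z : ℕ → K → G} {h : G}

theorem rh_lt {r : ℕ} (hr : r < 72) : rh r < 72 := (rh_spec r hr).2.1

/-- Lifts of commuting root elements commute. -/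
def CP (τ : Γ →* G) (z : ℕ → K → G) (r s : ℕ) : Prop :=
  ∀ ⦃a b : Γ⦄ ⦃t u : K⦄, τ a = z r t → τ b = z s u → Commute a b

omit [Field K] in
theorem CP.symm {τ : Γ →* G} {r s : ℕ} (c : CP τ z r s) : CP τ z s r :=
  fun _ _ _ _ ha hb => (c hb ha).symm

open Classical in
/-- The canonical lifts. -/
noncomputable def yy (φ : K →+* K) (ω : K) (z : ℕ → K → G) (h : G) (τ : Γ →* G) (r : ℕ) (t : K) : Γ :=
  if rh r = r then (if φ t = t then 1 else
    ⁅τ.toFun.invFun (z (la r) ω), τ.toFun.invFun (z (sb r (la r)) ω)⁆)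
  else ⁅τ.toFun.invFun h, τ.toFun.invFun (h * z r t * h⁻¹)⁆

namespace GS

variable (g : GS φ ω F z h)
include g

theorem add_self (t : K) : t + t = 0 := by rw [← two_mul, g.two, zero_mul]

theorem om_ne : φ ω ≠ ω := by
  rw [g.phi, g.om]; simp

theorem cube {t : K} (ht : t ≠ 0) : t * φ t = 1 := by
  have h1 := g.om
  have h2 := g.two
  rw [g.phi]
  rcases g.all t with rfl | rfl | rfl | rfl
  · exact absurd rfl ht
  · simp
  · linear_combination (t + 1) * h1 + t * h2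
  · linear_combination (ω + 4) * h1 + (4 * ω + 2) * h2

theorem phi_phi (t : K) : φ (φ t) = t := by
  rcases eq_or_ne t 0 with rfl | ht
  · simp
  · have := g.cube ht
    rw [g.phi] at this
    rw [g.phi, g.phi]
    linear_combination t * this

theorem chi {r : ℕ} (hr : r < 72) (h1 : rh r ≠ r) : ω ^ ex r * ω ^ ex r = ω ^ ex r + 1 := by
  obtain ⟨-, -, -, -, a, b⟩ := rh_spec r hr
  have h1 := mt a.1 h1
  have h2 := g.om
  have h3 := g.two
  obtain e | e : ex r = 1 ∨ ex r = 2 := by omega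
  · rw [e, pow_one, h2]
  · rw [e]; linear_combination (ω ^ 2 + ω + 1) * h2 + ω * h3

theorem zero {r : ℕ} (hr : r < 72) : z r 0 = 1 := by simpa using g.add r hr 0 0

theorem inv {r : ℕ} (hr : r < 72) (t : K) : (z r t)⁻¹ = z r t :=
  inv_eq_of_mul_eq_one_right (by rw [← g.add r hr, g.add_self, g.zero hr])

theorem z_one {r : ℕ} (hr : r < 72) (h1 : rh r = r) : z r 1 = 1 := by
  have := g.rho r hr ω
  rw [h1, g.phi, g.om, g.add r hr] at this
  simpa using this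

theorem fix_iff {t : K} : φ t = t ↔ t = 0 ∨ t = 1 := by
  rw [g.phi, mul_right_eq_self₀, or_comm]

theorem long_fix {r : ℕ} (hr : r < 72) (h1 : rh r = r) {t : K} (ht : φ t = t) : z r t = 1 := by
  rcases g.fix_iff.1 ht with rfl | rfl
  exacts [g.zero hr, g.z_one hr h1]

theorem long_ne {r : ℕ} (hr : r < 72) (h1 : rh r = r) {t : K} (ht : φ t ≠ t) : z r t = z r ω := by
  rcases g.all t with rfl | rfl | rfl | rfl
  · simp at ht
  · simp at ht
  · rfl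
  · rw [g.add r hr, g.z_one hr h1, mul_one]

theorem eq_comm_h {r : ℕ} (hr : r < 72) (h1 : rh r ≠ r) (t : K) :
    ⁅h, z r (ω ^ ex r * t)⁆ = z r t := by
  rw [commutatorElement_def, g.hc r hr, g.inv hr, ← g.add r hr]
  congr 1
  linear_combination t * g.chi hr h1 + ω ^ ex r * t * g.two

theorem h_long {r : ℕ} (hr : r < 72) (h1 : rh r = r) (t : K) : Commute h (z r t) := by
  have := g.hc r hr t
  rwa [(rh_spec r hr).2.2.2.2.1.2 h1, pow_zero, one_mul, mul_inv_eq_iff_eq_mul] at this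

variable {τ : Γ →* G} (hc : τ.ker ≤ Subgroup.center Γ) (hr : F ≤ τ.range)
include hr

theorem ex_lift {r : ℕ} (h1 : r < 72) (t : K) : ∃ a, τ a = z r t := hr (g.mem r h1 t)

omit g in
theorem inv_spec {x : G} (hx : x ∈ F) : τ (τ.toFun.invFun x) = x := Function.invFun_eq (hr hx)

include hc

theorem cSL {r s : ℕ} (h1 : r < 72) (h2 : s < 72) (h3 : rh r ≠ r) (h4 : rh s = s) (c : Cm r s) :
    CP τ z r s := fun a b t u ha hb => by
  obtain ⟨k, hk⟩ := hr g.hmem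
  obtain ⟨d, hd⟩ := g.ex_lift hr h1 (ω ^ ex r * t)
  refine commute_of_eq_commutator hc (a := k) (b := d) ?_ ?_ ?_
  · rw [hk, hb]; exact g.h_long h2 h4 u
  · rw [hd, hb]; exact g.cm r h1 s h2 c _ _
  · rw [ha, hk, hd, g.eq_comm_h h1 h3]

theorem cMi {r s a : ℕ} (h2 : s < 72) (h3 : a < 72) (m : Mi r s a) : CP τ z r s := fun p q t u hp hq => by
  obtain ⟨m1, m2, m3, m4, m5⟩ := m
  obtain ⟨d, hd⟩ := g.ex_lift hr h3 t
  obtain ⟨e, he⟩ := g.ex_lift hr m1 1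
  refine commute_of_eq_commutator hc (a := d) (b := e) ?_ ?_ ?_
  · rw [hd, hq]; exact g.cm _ h3 s h2 m4 _ _
  · rw [he, hq]; exact g.cm _ m1 s h2 m5 _ _
  · rw [hp, hd, he, g.c1 _ h3 _ m1 m2, m3, mul_one]

theorem cSS {r s : ℕ} (h1 : r < 72) (h2 : s < 72) (h3 : rh r ≠ r) (h4 : rh s ≠ s) (c : Cm r s) :
    CP τ z r s := by
  obtain ⟨a, ha, m | ⟨m1, m2, m3, m4, m5, m6⟩⟩ := ss_mi r h1 s h2 h3 h4 c
  · exact g.cMi hc hr h2 ha m
  intro p q t u hp hq
  obtain ⟨-, -, -, s1, s2, -⟩ := sl_spec a ha _ m1 m2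
  rw [m3] at s1 s2
  have s3 := (sm_spec a ha _ (rh_lt h1) s1).1
  obtain ⟨d, hd⟩ := g.ex_lift hr ha t
  obtain ⟨e, he⟩ := g.ex_lift hr m1 ω
  obtain ⟨w, hw⟩ := g.ex_lift hr s3 (ω * (t * φ t))
  have k1 : Commute (p * w) q := by
    refine commute_of_eq_commutator hc (a := d⁻¹) (b := e) ?_ ?_ ?_
    · rw [map_inv, hd, hq]; exact (g.cm _ ha s h2 m4 _ _).inv_left
    · rw [he, hq]; exact g.cm _ m1 s h2 m5 _ _
    · have := g.c2 a ha _ m1 m2 t
      rw [m3] at this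
      rw [map_mul, map_inv, hp, hw, hd, he, commutatorElement_def, inv_inv, mul_assoc, mul_assoc,
        ← mul_assoc (z (sb r a) ω), this]
      group
  simpa using k1.mul_left (g.cSL hc hr h2 s3 h4 s2 m6 hq hw).symm.inv_left

theorem cp {r s : ℕ} (h1 : r < 72) (h2 : s < 72) (c : Cm r s) : CP τ z r s := by
  by_cases h3 : rh r = r <;> by_cases h4 : rh s = s
  · obtain ⟨a, ha, m⟩ := ll_mi r h1 s h2 h3 h4 c
    exact g.cMi hc hr h2 ha m
  · exact (g.cSL hc hr h2 h1 h4 h3 (cm_symm r h1 s h2 c)).symm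
  · exact g.cSL hc hr h1 h2 h3 h4 c
  · exact g.cSS hc hr h1 h2 h3 h4 c

theorem cH {r : ℕ} (h1 : r < 72) (h2 : rh r = r) {a k : Γ} {t : K} (ha : τ a = z r t) (hk : τ k = h) :
    Commute a k := by
  by_cases ht : φ t = t
  · exact commute_of_mem_ker hc (ha.trans (g.long_fix h1 h2 ht)) k
  obtain ⟨l1, l2, l3, l4⟩ := la_spec r h1 h2
  obtain ⟨d, hd⟩ := g.ex_lift hr l1 ω
  obtain ⟨e, he⟩ := g.ex_lift hr l2 ω
  refine commute_of_eq_commutator hc (a := d) (b := e) ?_ ?_ ?_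
  · rw [hd, hk]; exact (g.h_long l1 l3.1 _).symm
  · rw [he, hk]; exact (g.h_long l2 l3.2.1 _).symm
  · rw [ha, hd, he, g.c3 _ l1 _ l2 l3, l4, g.long_ne h1 h2 ht]

theorem ll_symm {l m : ℕ} (h1 : l < 72) (h2 : m < 72) (c : Ll l m) {p q : Γ} (hp : τ p = z l ω)
    (hq : τ q = z m ω) : ⁅q, p⁆ = ⁅p, q⁆ := by
  obtain ⟨a1, -, a2, a3, -⟩ := ll_spec l h1 m h2 c
  have e : τ ⁅p, q⁆ = z (ad l m) ω := by rw [map_commutatorElement, hp, hq, g.c3 l h1 m h2 c]
  have := commutator_pow_pow (g.cp hc hr a1 h1 a2 e hp) (g.cp hc hr a1 h2 a3 e hq) 2 1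
  rw [← commutatorElement_inv, inv_eq_iff_mul_eq_one, ← sq, ← this,
    commutatorElement_eq_one_iff_commute]
  refine commute_of_mem_ker hc ?_ _
  rw [MonoidHom.mem_ker, map_pow, hp, sq, ← g.add l h1, g.add_self, g.zero h1]

theorem cp_comm {a b l m : ℕ} (h1 : a < 72) (h2 : b < 72) (h3 : m < 72) (s : Sm a b)
    (c : Cp a b l m) {p q v w : Γ} {t u : K} (hp : τ p = z a t) (hq : τ q = z b u)
    (hv : τ v = z l (t * u)) (hw : τ w = z m ω) : ⁅p, q⁆ = ⁅v⁻¹, w⁆ := by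
  obtain ⟨c1, c2, c3, c4, c5, c6, c7, c8⟩ := c
  obtain ⟨-, -, -, s1, -⟩ := sl_spec _ c1 _ h3 c5
  rw [c6] at s1
  have s2 := (sm_spec _ c1 _ (rh_lt h2) s1).1
  obtain ⟨e, he⟩ := g.ex_lift hr c1 u
  obtain ⟨x, hx⟩ := g.ex_lift hr s2 (ω * (u * φ u))
  have e1 : w * ⁅p, e⁆ * w⁻¹ = ⁅p, e * q * x⁆ := by
    rw [conjugate_commutatorElement]
    refine commutator_congr hc ?_ ?_
    · rw [map_mul, map_mul, map_inv, hw, hp, ← (g.cm a h1 m h3 c4 _ _).eq, mul_inv_cancel_right]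
    · simp only [map_mul, map_inv, hw, he, hq, hx, g.c2 _ c1 m h3 c5, c6]
  have e2 : Commute e ⁅p, q⁆ := g.cp hc hr c1 (sm_spec a h1 b h2 s).1 c8 he
    (by rw [map_commutatorElement, hp, hq, g.c1 a h1 b h2 s])
  have e3 : ⁅p, e * q * x⁆ = ⁅p, e⁆ * ⁅p, q⁆ := by
    have := (g.cp hc hr h1 s2 c7 hp hx).eq
    calc _ = ⁅p, e⁆ * (e * (p * q * p⁻¹ * (p * x * p⁻¹) * x⁻¹ * q⁻¹) * e⁻¹) := by
          simp only [commutatorElement_def]; group
      _ = ⁅p, e⁆ * (e * ⁅p, q⁆ * e⁻¹) := by rw [this]; simp only [commutatorElement_def]; group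
      _ = _ := by rw [e2.eq, mul_inv_cancel_right]
  rw [commutator_congr hc (x' := ⁅p, e⁆⁻¹) (y' := w) (by
    rw [map_inv, map_inv, map_commutatorElement, hv, hp, he, g.c1 a h1 _ c1 c2, c3]) rfl,
    commutatorElement_def ⁅p, e⁆⁻¹, inv_inv, mul_assoc, mul_assoc, ← mul_assoc w, e1, e3,
    inv_mul_cancel_left]

theorem sm_ll {a b l : ℕ} (h1 : a < 72) (h2 : b < 72) (h3 : l < 72) (h4 : sb (ad a b) l < 72)
    (s : Sm a b) (s1 : rh (ad a b) = ad a b) (c : Ll l (sb (ad a b) l))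
    (c1 : ad l (sb (ad a b) l) = ad a b) {p q v w : Γ} {t u : K} (hp : τ p = z a t)
    (hq : τ q = z b u) (hv : τ v = z l ω) (hw : τ w = z (sb (ad a b) l) ω) :
    (φ (t * u) = t * u → ⁅p, q⁆ = 1) ∧ (φ (t * u) ≠ t * u → ⁅p, q⁆ = ⁅v, w⁆) := by
  have key : ∀ {l m : ℕ} {v w : Γ}, l < 72 → m < 72 → rh l = l → Cp a b l m → τ v = z l ω →
      τ w = z m ω → (φ (t * u) = t * u → ⁅p, q⁆ = 1) ∧ (φ (t * u) ≠ t * u → ⁅p, q⁆ = ⁅v, w⁆) :=
    fun k1 k2 k3 k4 k5 k6 => ⟨fun e => by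
      simpa using g.cp_comm hc hr h1 h2 k2 s k4 hp hq (v := 1)
        (by rw [g.long_fix k1 k3 e, map_one]) k6, fun e => by
      simpa using g.cp_comm hc hr h1 h2 k2 s k4 hp hq (v := _⁻¹)
        (by rw [g.long_ne k1 k3 e, map_inv, k5, g.inv k1]) k6⟩
  rcases cp_spec a h1 b h2 s s1 l h3 c c1 with k | k
  · exact key h3 h4 c.1 k hv hw
  · rw [← g.ll_symm hc hr h3 h4 c hv hw]
    exact key h4 h3 c.2.1 k hw hv

omit hc in
theorem y_map {r : ℕ} (h1 : r < 72) (t : K) : τ (yy φ ω z h τ r t) = z r t := by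
  unfold yy
  split_ifs with h2 h3
  · rw [map_one, g.long_fix h1 h2 h3]
  · obtain ⟨l1, l2, l3, l4⟩ := la_spec r h1 h2
    rw [map_commutatorElement, inv_spec hr (g.mem _ l1 _), inv_spec hr (g.mem _ l2 _),
      g.c3 _ l1 _ l2 l3, l4, g.long_ne h1 h2 h3]
  · rw [map_commutatorElement, inv_spec hr g.hmem, g.hc r h1, inv_spec hr (g.mem _ h1 _),
      g.eq_comm_h h1 h2]

theorem y_short {r : ℕ} (h1 : r < 72) (h2 : rh r ≠ r) {k a : Γ} {t : K} (hk : τ k = h)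
    (ha : τ a = z r (ω ^ ex r * t)) : yy φ ω z h τ r t = ⁅k, a⁆ := by
  rw [yy, if_neg h2]
  exact commutator_congr hc (by rw [inv_spec hr g.hmem, hk])
    (by rw [g.hc r h1, inv_spec hr (g.mem _ h1 _), ha])

theorem y_sm {a b : ℕ} (h1 : a < 72) (h2 : b < 72) (s : Sm a b) (s1 : rh (ad a b) = ad a b)
    {p q : Γ} {t u : K} (hp : τ p = z a t) (hq : τ q = z b u) :
    ⁅p, q⁆ = yy φ ω z h τ (ad a b) (t * u) := by
  obtain ⟨l1, l2, l3, l4⟩ := la_spec _ (sm_spec a h1 b h2 s).1 s1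
  have := g.sm_ll hc hr h1 h2 l1 l2 s s1 l3 l4 hp hq (inv_spec hr (g.mem _ l1 _))
    (inv_spec hr (g.mem _ l2 _))
  rw [yy, if_pos s1]
  split_ifs with e
  exacts [this.1 e, this.2 e]

theorem y_ll {l m : ℕ} (h1 : l < 72) (h2 : m < 72) (c : Ll l m) {v w : Γ} (hv : τ v = z l ω)
    (hw : τ w = z m ω) : ⁅v, w⁆ = yy φ ω z h τ (ad l m) ω := by
  obtain ⟨a1, a2, -, -, a3, -⟩ := ll_spec l h1 m h2 c
  obtain ⟨a, ha, m1, m2, m3, -⟩ := ll_mi _ a1 _ a1 a2 a2 (rh_spec _ a1).2.2.2.1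
  have e := g.y_sm hc hr ha m1 m2 (m3.symm ▸ a2) (g.y_map hr ha ω) (g.y_map hr m1 1)
  have := (g.sm_ll hc hr ha m1 h1 (by rw [m3, a3]; exact h2) m2 (m3.symm ▸ a2)
    (by rw [m3, a3]; exact c) (by rw [m3, a3]) (g.y_map hr ha ω) (g.y_map hr m1 1) hv
    (by rw [m3, a3]; exact hw)).2 (by simpa using g.om_ne)
  rw [← this, e, m3, mul_one]

theorem y_add {r : ℕ} (h1 : r < 72) (s t : K) :
    yy φ ω z h τ r (s + t) = yy φ ω z h τ r s * yy φ ω z h τ r t := by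
  by_cases h2 : rh r = r
  · obtain ⟨l1, l2, l3, -⟩ := la_spec r h1 h2
    have e := g.ll_symm hc hr l1 l2 l3 (inv_spec hr (g.mem _ l1 ω)) (inv_spec hr (g.mem _ l2 ω))
    rw [← commutatorElement_inv, inv_eq_iff_mul_eq_one] at e
    have k : ∀ t, φ t ≠ t → φ t = t + 1 := fun t ht => by
      rcases g.all t with rfl | rfl | rfl | rfl
      · simp at ht
      · simp at ht
      · rw [g.phi, g.om]
      · rw [map_add, map_one, g.phi, g.om]
    simp only [yy, if_pos h2, map_add]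
    by_cases hs : φ s = s <;> by_cases ht : φ t = t
    · simp [hs, ht]
    · simp [hs, ht]
    · simp [hs, ht]
    · rw [if_neg hs, if_neg ht, e, if_pos]
      rw [map_add, k s hs, k t ht]; linear_combination g.two
  obtain ⟨k, hk⟩ := hr g.hmem
  obtain ⟨a, ha⟩ := g.ex_lift hr h1 (ω ^ ex r * s)
  obtain ⟨b, hb⟩ := g.ex_lift hr h1 (ω ^ ex r * t)
  have e := (g.cp hc hr h1 h1 (rh_spec r h1).2.2.2.1 ha (g.y_map hr h1 t)).eq
  rw [g.y_short hc hr h1 h2 hk hb] at e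
  rw [g.y_short hc hr h1 h2 hk (a := a * b) (by rw [map_mul, ha, hb, mul_add, g.add r h1]),
    g.y_short hc hr h1 h2 hk ha, g.y_short hc hr h1 h2 hk hb]
  calc _ = ⁅k, a⁆ * (a * ⁅k, b⁆ * a⁻¹) := by simp only [commutatorElement_def]; group
    _ = _ := by rw [e, mul_inv_cancel_right]

theorem y_zero {r : ℕ} (h1 : r < 72) : yy φ ω z h τ r 0 = 1 := by simpa using g.y_add hc hr h1 0 0

theorem y_sq {r : ℕ} (h1 : r < 72) (t : K) : yy φ ω z h τ r t * yy φ ω z h τ r t = 1 := by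
  rw [← g.y_add hc hr h1, g.add_self, g.y_zero hc hr h1]

omit hc hr in
theorem y_rho {r : ℕ} (h1 : r < 72) (t : K) : yy φ ω z h τ (rh r) (φ t) = yy φ ω z h τ r t := by
  by_cases h2 : rh r = r
  · have e : φ (φ t) = φ t ↔ φ t = t := by rw [g.phi_phi, eq_comm]
    rw [h2, yy, yy, if_pos h2, if_pos h2]
    by_cases k : φ t = t
    · rw [if_pos k, if_pos (e.2 k)]
    · rw [if_neg k, if_neg (mt e.1 k)]
  · rw [yy, yy, if_neg h2, if_neg (by rw [(rh_spec r h1).2.2.1]; exact Ne.symm h2), g.rho r h1]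

theorem y_conj {r : ℕ} (h1 : r < 72) (h2 : rh r ≠ r) {k : Γ} (hk : Commute h (τ k)) {t u : K}
    (e : τ k * z r t * (τ k)⁻¹ = z r u) :
    k * yy φ ω z h τ r t * k⁻¹ = yy φ ω z h τ r u := by
  obtain ⟨d, hd⟩ := hr g.hmem
  obtain ⟨a, ha⟩ := g.ex_lift hr h1 (ω ^ ex r * t)
  rw [g.y_short hc hr h1 h2 hd ha, conjugate_commutatorElement, g.y_short hc hr h1 h2
    (k := k * d * k⁻¹) (a := k * a * k⁻¹) (by simp [hd, ← hk.eq])]
  rw [map_mul, map_mul, map_inv, ha, ← g.hc r h1, ← g.hc r h1, ← e]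
  calc _ = τ k * h * z r t * (τ k * h)⁻¹ := by group
    _ = _ := by rw [← hk.eq]; group

theorem y_h {r : ℕ} (h1 : r < 72) {k : Γ} (hk : τ k = h) (t : K) :
    k * yy φ ω z h τ r t * k⁻¹ = yy φ ω z h τ r (ω ^ ex r * t) := by
  by_cases h2 : rh r = r
  · rw [(rh_spec r h1).2.2.2.2.1.2 h2, pow_zero, one_mul,
      ← (g.cH hc hr h1 h2 (g.y_map hr h1 t) hk).eq, mul_inv_cancel_right]
  · exact g.y_conj hc hr h1 h2 (hk ▸ Commute.refl _) (by rw [hk, g.hc r h1])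

theorem y_n {i : ℕ} (hi : i < 4) : ∃ n, ∀ r < 72, rh r ≠ r → ∀ t,
    n * yy φ ω z h τ r t * n⁻¹ = yy φ ω z h τ (wr i r) t := by
  obtain ⟨n, hn, h1, h2⟩ := g.nc i hi
  obtain ⟨n, rfl⟩ := hr hn
  refine ⟨n, fun r h3 h4 t => ?_⟩
  obtain ⟨w1, -, w2⟩ := wr_spec i hi r h3
  obtain ⟨d, hd⟩ := hr g.hmem
  rw [g.y_short hc hr h3 h4 hd (g.y_map hr h3 _), conjugate_commutatorElement, commutator_congr hc
    rfl (y' := yy φ ω z h τ (wr i r) (ω ^ ex r * t)) (by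
      rw [map_mul, map_mul, map_inv, g.y_map hr h3, g.y_map hr w1, h2 r h3]), commutatorElement_def,
    g.y_conj hc hr w1 (mt w2.1 h4) (by simpa [hd] using h1) (u := ω ^ ex r * (ω ^ ex r * t)) (by
      rw [map_mul, map_mul, map_inv, hd, ← h2 r h3, ← h2 r h3, ← g.hc r h3 (ω ^ ex r * t)]
      generalize z r _ = x; group),
    ← mul_assoc, g.chi h3 h4, add_mul, one_mul, add_comm, g.y_add hc hr w1, mul_inv_cancel_right]

theorem y_sl {r l : ℕ} (h1 : r < 72) (h2 : l < 72) (c : Sl r l) (t : K) :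
    yy φ ω z h τ l ω * yy φ ω z h τ r t * (yy φ ω z h τ l ω)⁻¹ = yy φ ω z h τ r t *
      yy φ ω z h τ (ad r l) t * yy φ ω z h τ (ad r (rh (ad r l))) (ω * (t * φ t)) := by
  obtain ⟨s1, s2, s3, s4, s5, s6⟩ := sl_spec r h1 l h2 c
  obtain ⟨s7, s8, -⟩ := sm_spec r h1 _ (rh_lt s1) s4
  rcases eq_or_ne t 0 with rfl | ht
  · simp [g.y_zero hc hr h1, g.y_zero hc hr s1, g.y_zero hc hr s7]
  set y := yy φ ω z h τ with hy
  set v := y l ω
  set c' := ω ^ ex r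
  obtain ⟨d, hd⟩ := hr g.hmem
  let W : K → Γ := fun t => (y r t * y (ad r l) t)⁻¹ * (v * y r t * v⁻¹)
  have hW : ∀ t, τ (W t) = z (ad r (rh (ad r l))) (ω * (t * φ t)) := fun t => by
    simp only [W, v, hy, map_mul, map_inv, g.y_map hr h1, g.y_map hr h2, g.y_map hr s1,
      g.c2 r h1 l h2 c, inv_mul_cancel_left]
  have e0 : ∀ t, v * y r t * v⁻¹ = y r t * y (ad r l) t * W t := fun t => (mul_inv_cancel_left _ _).symm
  have e1 : ∀ t, W (c' * t) = W t := fun t => by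
    have k1 := g.y_h hc hr h1 hd t
    have k2 := g.y_h hc hr s1 hd t
    rw [s3] at k2
    have k3 := (g.cH hc hr h2 c.2.1 (g.y_map hr h2 ω) hd).eq
    calc W (c' * t) = d * ((y r t * y (ad r l) t)⁻¹ * (d⁻¹ * (v * d) * y r t * (d⁻¹ * (v * d))⁻¹)) *
          d⁻¹ := by simp only [W, c', hy, ← k1, ← k2]; group
      _ = d * W t * d⁻¹ := by rw [k3, inv_mul_cancel_left]
      _ = _ := by rw [← (g.cH hc hr s7 s5 (hW t) hd).eq, mul_inv_cancel_right]
  have e2 : c' * (c' * t) = t + c' * t := by linear_combination t * g.chi h1 c.1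
  have e3 : ⁅y r (c' * t), y (ad r l) t⁆ = y (ad r (rh (ad r l))) ω := by
    rw [g.y_sm hc hr h1 (rh_lt s1) s4 s5 (g.y_map hr h1 _) ((g.y_map hr s1 t).trans
      (g.rho _ s1 t).symm), mul_assoc, g.cube ht, mul_one, hy, yy, yy, if_pos s5, if_pos s5,
      if_neg g.om_ne, if_neg]
    rw [g.phi, g.chi h1 c.1]; exact fun e => one_ne_zero (add_eq_left.1 e)
  have e4 := e0 (t + c' * t)
  rw [← e2, e1, e1, e2, hy, g.y_add hc hr h1, g.y_add hc hr s1, ← hy,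
    show ∀ a b : Γ, v * (a * b) * v⁻¹ = v * a * v⁻¹ * (v * b * v⁻¹) from fun a b => by group,
    e0, e0, e1] at e4
  have k1 := (g.cp hc hr h1 s7 s8 (g.y_map hr h1 (c' * t)) (hW t)).eq
  have k2 := (g.cp hc hr h1 s7 s8 (g.y_map hr h1 (c' * t)) (g.y_map hr s7 ω)).eq
  have k3 := (g.cp hc hr s1 s7 s6 (g.y_map hr s1 t) (g.y_map hr s7 ω)).eq
  rw [← hy] at k1 k2 k3
  rw [e0, g.cube ht, mul_one]
  congr 1
  generalize W t = w, y r t = a, y r (c' * t) = a', y (ad r l) t = b, y (ad r l) (c' * t) = b',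
    y (ad r (rh (ad r l))) ω = x at *
  have e5 : b * w * a' = a' * b := by
    calc _ = a⁻¹ * (a * b * w * (a' * b' * w)) * (b' * w)⁻¹ := by group
      _ = _ := by rw [e4]; group
  have e6 : a' * b = b * x * a' := by
    rw [k3, ← e3, commutatorElement_def]; group
  rw [e6] at e5
  simpa using e5

theorem y_sl' {r l : ℕ} (h1 : r < 72) (h2 : l < 72) (c : Sl r l) (t u : K) {S : Subgroup Γ}
    (k1 : ∀ v, yy φ ω z h τ (ad r l) v ∈ S) (k2 : ∀ v, yy φ ω z h τ (ad r (rh (ad r l))) v ∈ S) :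
    ⁅yy φ ω z h τ r t, yy φ ω z h τ l u⁆ ∈ S := by
  by_cases hu : φ u = u
  · simp [yy, c.2.1, hu]
  have e : yy φ ω z h τ l u = yy φ ω z h τ l ω := by simp [yy, c.2.1, hu, g.om_ne]
  rw [e, commutatorElement_def, inv_eq_of_mul_eq_one_right (g.y_sq hc hr h1 t), mul_assoc, mul_assoc,
    ← mul_assoc (yy φ ω z h τ l ω), g.y_sl hc hr h1 h2 c, ← mul_assoc, ← mul_assoc, g.y_sq hc hr h1,
    one_mul]
  exact mul_mem (k1 _) (k2 _)

end GS

/-- The defect of the commutator relation. -/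
noncomputable def df (y : ℕ → K → Γ) (r s : ℕ) (t u : K) : Γ := (y (ad r s) (t * u))⁻¹ * ⁅y r t, y s u⁆

namespace GS

variable (g : GS φ ω F z h) {τ : Γ →* G} (hc : τ.ker ≤ Subgroup.center Γ) (hr : F ≤ τ.range)
include g hr

theorem df_mem {r s : ℕ} (h1 : r < 72) (h2 : s < 72) (c : Sm r s) (t u : K) :
    df (yy φ ω z h τ) r s t u ∈ τ.ker := by
  rw [MonoidHom.mem_ker, df, map_mul, map_inv, map_commutatorElement, g.y_map hr h1, g.y_map hr h2,
    g.y_map hr (sm_spec r h1 s h2 c).1, g.c1 r h1 s h2 c, inv_mul_cancel]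

include hc

theorem df_conj {r s : ℕ} (h1 : r < 72) (h2 : s < 72) (c : Sm r s) (t u : K) (n : Γ) :
    df (yy φ ω z h τ) r s t u = (n * yy φ ω z h τ (ad r s) (t * u) * n⁻¹)⁻¹ *
      ⁅n * yy φ ω z h τ r t * n⁻¹, n * yy φ ω z h τ s u * n⁻¹⁆ := by
  rw [← conjugate_commutatorElement, ← mul_inv_cancel_right (df _ r s t u) n,
    (commute_of_mem_ker hc (g.df_mem hr h1 h2 c t u) n).eq, df]
  group

theorem df_add {r s : ℕ} (h1 : r < 72) (h2 : s < 72) (c : Sm r s) (t u v : K) :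
    df (yy φ ω z h τ) r s t (u + v) = df (yy φ ω z h τ) r s t u * df (yy φ ω z h τ) r s t v := by
  obtain ⟨s1, -, s2, -⟩ := sm_spec r h1 s h2 c
  have e := (g.cp hc hr h2 s1 s2 (g.y_map hr h2 u) (b := ⁅yy φ ω z h τ r t, yy φ ω z h τ s v⁆) (by
    rw [map_commutatorElement, g.y_map hr h1, g.y_map hr h2, g.c1 r h1 s h2 c])).eq
  have e' := (commute_of_mem_ker hc (g.df_mem hr h1 h2 c t u) (yy φ ω z h τ (ad r s) (t * v))⁻¹).eq
  rw [df.eq_1 _ _ _ _ v, ← mul_assoc, e', df, df, mul_add, g.y_add hc hr s1, g.y_add hc hr h2]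
  generalize yy φ ω z h τ r t = a, yy φ ω z h τ s u = b, yy φ ω z h τ s v = b' at *
  calc _ = _ * (⁅a, b⁆ * (b * ⁅a, b'⁆ * b⁻¹)) := by congr 1; simp only [commutatorElement_def]; group
    _ = _ := by rw [e]; group

omit hc hr in
theorem exists_ys (hK : Nat.card K = 4) {τ : Γ →* G}
    (hc : τ.ker ≤ Subgroup.center Γ) (hr : F ≤ τ.range) : ∃ y Z, YS φ z τ y Z := by
  set y := yy φ ω z h τ with hy
  have b1 : Sm 66 15 := by decide +kernel
  let f : Multiplicative K →* Γ := MonoidHom.mk' (fun u => df y 66 15 1 u.toAdd)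
    fun u v => g.df_add hc hr (by decide) (by decide) b1 1 _ _
  have base : ∀ t u, df y 66 15 t u ∈ f.range := by
    obtain ⟨d, hd⟩ := hr g.hmem
    have e : ∀ t u, df y 66 15 t u = df y 66 15 (ω * t) (ω * u) := fun t u => by
      rw [g.df_conj hc hr (by decide) (by decide) b1 t u d, g.y_h hc hr (by decide +kernel) hd,
        g.y_h hc hr (by decide) hd, g.y_h hc hr (by decide) hd, show ex (ad 66 15) = 2 by
        decide +kernel, show ex 66 = 1 by decide +kernel, show ex 15 = 1 by decide +kernel, pow_one,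
        df, mul_mul_mul_comm, sq]
    have e1 : ∀ u, df y 66 15 1 u ∈ f.range := fun u => ⟨Multiplicative.ofAdd u, rfl⟩
    intro t u
    rcases g.all t with rfl | rfl | rfl | rfl
    · rw [df, zero_mul, hy, g.y_zero hc hr (by decide +kernel), g.y_zero hc hr (by decide)]
      simp
    · exact e1 u
    · rw [e, e, show t * (t * t) = 1 by linear_combination (t + 1) * g.om + t * g.two]
      exact e1 _
    · rw [e, show ω * (ω + 1) = 1 by linear_combination g.om + ω * g.two]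
      exact e1 _
  have all : ∀ m r s, r < 72 → s < 72 → Sm r s → rh (ad r s) ≠ ad r s → 32 * ht r + ht s = m →
      ∀ t u, df y r s t u ∈ f.range := by
    intro m
    induction m using Nat.strong_induction_on with | _ m ih =>
    intro r s h1 h2 c c1 e t u
    rcases orb_spec r h1 s h2 c c1 with ⟨rfl, rfl⟩ | ⟨rfl, rfl⟩ | ⟨i, hi, k⟩
    · exact base t u
    · have := base (φ t) (φ u)
      rwa [df, ← map_mul, hy, ← g.y_rho (r := 66) (by decide), ← g.y_rho (r := 15) (by decide),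
        ← g.y_rho (r := ad 66 15) (by decide +kernel), g.phi_phi, g.phi_phi, g.phi_phi,
        ← (sm_spec 66 (by decide) 15 (by decide) b1).2.2.2.2.2.1] at this
    · obtain ⟨n, hn⟩ := g.y_n hc hr (τ := τ) hi
      obtain ⟨s1, -, -, -, -, -, s2⟩ := sm_spec r h1 s h2 c
      obtain ⟨s2, s3⟩ := s2 i hi
      rw [g.df_conj hc hr h1 h2 c t u n, hn r h1 c.1, hn s h2 c.2.1, hn _ s1 c1, ← s3]
      exact ih _ (e ▸ k) _ _ (wr_spec i hi r h1).1 (wr_spec i hi s h2).1 s2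
        (by rw [s3]; exact mt (wr_spec i hi _ s1).2.2.1 c1) rfl t u
  refine ⟨y, f.range, ?_, ?_, fun r => g.y_map hr, fun r => g.y_add hc hr, fun r => g.y_rho,
    fun r h1 t e => ?_, fun r h1 s h2 h3 h4 h5 t u => ?_⟩
  · rintro _ ⟨u, rfl⟩
    exact g.df_mem hr (by decide) (by decide) b1 _ _
  · rw [← hK, ← Nat.card_congr (Multiplicative.toAdd (α := K))]
    exact Subgroup.card_dvd_of_surjective _ f.rangeRestrict_surjective
  · have := g.inj r h1 t e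
    split_ifs at this with h2
    · simp [hy, yy, h2, this]
    · rw [this, hy, g.y_zero hc hr h1]
  set S := f.range ⊔ Subgroup.closure {g | ∃ k < 72, 36 ≤ k ∧ E6.kap s < E6.kap k ∧ ∃ v, g = y k v}
  have hi : ∀ {k}, k < 72 → Hi s k → ∀ v, y k v ∈ S := fun k1 k2 v =>
    Subgroup.mem_sup_right (Subgroup.subset_closure ⟨_, k1, k2.1, k2.2, v, rfl⟩)
  have sm : ∀ {s'}, s' < 72 → Sm r s' → Hi s (ad r s') → ∀ u, ⁅y r t, y s' u⁆ ∈ S := by
    intro s' k1 k2 k3 u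
    have k4 := hi (sm_spec r h1 _ k1 k2).1 k3 (t * u)
    by_cases k5 : rh (ad r s') = ad r s'
    · rwa [g.y_sm hc hr h1 k1 k2 k5 (g.y_map hr h1 t) (g.y_map hr k1 u)]
    · simpa [df] using mul_mem k4 (Subgroup.mem_sup_left (all _ r s' h1 k1 k2 k5 rfl t u))
  rcases pos_spec r h1 s h2 h3 h4 h5 with c | ⟨c, k⟩ | ⟨c, k⟩ | ⟨c, k, k'⟩ | ⟨c, k, k'⟩ | ⟨c, k⟩
  · rw [(g.cp hc hr h1 h2 c (g.y_map hr h1 t) (g.y_map hr h2 u)).commutator_eq]
    exact one_mem _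
  · exact sm h2 c k u
  · rw [hy, ← g.y_rho h2]
    exact sm (rh_lt h2) c k _
  · obtain ⟨s1, -, -, s2, -⟩ := sl_spec r h1 s h2 c
    exact g.y_sl' hc hr h1 h2 c t u (hi s1 k) (hi (sm_spec r h1 _ (rh_lt s1) s2).1 k')
  · obtain ⟨s1, -, -, s2, -⟩ := sl_spec s h2 r h1 c
    rw [← commutatorElement_inv]
    exact inv_mem (g.y_sl' hc hr h2 h1 c u t (hi s1 k) (hi (sm_spec s h2 _ (rh_lt s1) s2).1 k'))
  · by_cases ht : φ t = t
    · simp [hy, yy, c.1, ht]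
    by_cases hu : φ u = u
    · simp [hy, yy, c.2.1, hu]
    rw [g.y_ll hc hr h1 h2 c ((g.y_map hr h1 t).trans (g.long_ne h1 c.1 ht))
      ((g.y_map hr h2 u).trans (g.long_ne h2 c.2.1 hu))]
    exact hi (ll_spec r h1 s h2 c).1 k _

end GS

end Cfsg.Agent.Mult.E62
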