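import Cfsg.Agent.Mult.E62G
import Cfsg.Agent.Mult.E62Y
import Cfsg.Agent.Chev.TwistE6F

/-! The Schur multiplier of `²E₆(2)` has order at most `12`. -/

set_option autoImplicit false

namespace Cfsg.Agent.Mult.E62

open Cfsg.Lie Cfsg.Agent.Chev
open scoped commutatorElement

theorem not_dvd_of_compl {Γ G : Type*} [Group Γ] [Group G] [Finite Γ] {σ : Γ →* G}
    (hσ : IsStemExtension σ) {X₀ : Subgroup Γ} (h0 : X₀ ⊓ σ.ker = ⊥) {p : ℕ} [hp : Fact p.Prime]
    (hi : ¬ p ∣ (X₀.map σ).index) : ¬ p ∣ Nat.card σ.ker := fun hd => by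
  obtain ⟨a, ha⟩ := exists_prime_orderOf_dvd_card' p hd
  rw [← Subgroup.index_comap_of_surjective _ hσ.1] at hi
  have h1 := FGS.pow_index_mem_commutator_of_mem_center ((X₀.map σ).comap σ) (hσ.2.1 a.2)
    (hσ.2.2 a.2)
  have h2 : ⁅(X₀.map σ).comap σ, (X₀.map σ).comap σ⁆ ≤ X₀ := by
    refine Subgroup.commutator_le.2 ?_
    rintro b ⟨b', hb, eb⟩ c ⟨c', hc, ec⟩
    have k : ∀ {b b'}, σ b' = σ b → ∀ c, b * c * b⁻¹ = b' * c * b'⁻¹ := fun {b b'} e c => by
      have := Subgroup.mem_center_iff.1 (hσ.2.1 (show b'⁻¹ * b ∈ σ.ker by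
        simp [MonoidHom.mem_ker, e])) c
      calc b * c * b⁻¹ = b' * (b'⁻¹ * b * c) * b⁻¹ := by group
        _ = _ := by rw [← this]; group
    rw [commutatorElement_def, k eb, mul_assoc, mul_assoc, ← mul_assoc c, k ec]
    exact mul_mem hb (mul_mem (mul_mem hc (inv_mem hb)) (inv_mem hc))
  have h3 := h0.le ⟨h2 h1, pow_mem a.2 _⟩
  exact hi (ha ▸ orderOf_dvd_of_pow_eq_one (Subtype.ext h3))

section

variable {K G : Type*} [Field K] [Group G] {T : RootTable chevE6} {x : ℕ → K → G}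
  {S : ChevSys T x} {φ : K →+* K} {hφ : ∀ t, φ (φ t) = t} {ω : K} {h : G}

theorem mem_ray (g : GS φ ω (E6.tw S φ hφ).data.Fix (fun r t => x r t * x (rhoE6 r) (φ t)) h)
    {r : ℕ} (hr : chevE6.IsPosRoot r) (a : G) :
    a ∈ (E6.tw S φ hφ).ray E6.kap (E6.kap r) ↔ ∃ t, a = x r t * x (rhoE6 r) (φ t) := by
  have hZ := (E6.isRay S φ hφ).nil_ray (E6.kap r)
  have hm := E6.mem_ray S φ hφ hr
  refine ⟨fun ha => ?_, ?_⟩
  · obtain ⟨-, ⟨a2, a3, -⟩ | ⟨-, a3, a4⟩⟩ := E6.dat_spec r hr.1 ((E6.pos_iff r hr.1).1 hr)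
    · obtain ⟨t, ht, rfl⟩ := ((E6.tw S φ hφ).mem_fx_one hZ (r := r) (fun k => by
        rw [← hm, a2]; simp) a2 a3 a).1 ha
      replace ht : φ t = t := ht
      refine ⟨t * ω, ?_⟩
      rw [a2, S.st.add r hr.1, map_mul, ht, g.phi, g.om]
      congr 1
      linear_combination (-t * ω) * g.two
    · obtain ⟨t, rfl⟩ := (((E6.tw S φ hφ).par_two (E6.σ_σ S φ hφ) hZ a3 hm (E6.rho_rho r hr.1).1
        (E6.comm S _ _ ⟨hr.1, (E6.tw S φ hφ).ρ_lt hr.1, a4⟩)).mem a).1 ha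
      refine ⟨t, ?_⟩
      rw [(E6.tw S φ hφ).hσ r hr.1]
      congr 2
      change _ * φ t = φ t
      rcases ((E6.tw S φ hφ).tw.spec hr.1).2.2.1 with e | e <;> rw [e] <;> push_cast
      · rw [one_mul]
      · linear_combination (-φ t) * g.two
  · rintro ⟨t, rfl⟩
    exact ⟨mul_mem (mem_XS ((hm _).1 (by simp)) _) (mem_XS ((hm _).1 (by simp)) _), g.mem r hr.1 t⟩

end

theorem mcard_le {K : Type*} [Field K] [Fintype K] (hK : Fintype.card K = 4) :
    mcard (twistedE6 K 2) ≤ 12 := by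
  have hK' : Fintype.card K = 2 ^ 2 := hK
  obtain ⟨S, φ, hφ, hq, hT⟩ := E6.exists_data Nat.prime_two.isPrimePow hK'
  obtain ⟨ω, h, g⟩ := exists_gs hK S φ hφ hq
  have : CharP K 2 := (CharP.charP_iff_prime_eq_zero Nat.prime_two).2 (by exact_mod_cast g.two)
  let j := Subgroup.inclusion (E6.le_group (K := K) (q := 2))
  have hj : Function.Injective j := Subgroup.inclusion_injective _
  have hr : j.range = (E6.tw S φ hφ).data.T := TwistData.range_inclusion _ _ hT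
  have hF := E6.T_eq_Fix S φ hφ
  have := S.finite
  have := Finite.of_injective j hj
  obtain ⟨Γ, _, _, σ, hσ, hk⟩ := exists_cover (twistedE6 K 2)
  have ker : ∀ {Γ : Type _} [Group Γ] (σ : Γ →* twistedE6 K 2), (j.comp σ).ker = σ.ker :=
    fun σ => MonoidHom.ker_comp_of_injective _ _ hj
  obtain ⟨y, Z, ys⟩ := g.exists_ys (τ := j.comp σ) (Nat.card_eq_fintype_card.trans hK)
    (ker σ ▸ hσ.2.1) (by
      rw [← hF, ← hr, MonoidHom.range_comp, MonoidHom.range_eq_top.2 hσ.1, MonoidHom.range_eq_map])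
  have h0 : Z ≤ σ.ker := ker σ ▸ ys.le
  have := FGS.normal_of_le_center (h0.trans hσ.2.1)
  let π := QuotientGroup.mk' Z
  let σ' := QuotientGroup.lift Z σ h0
  have hcomp : σ'.comp π = σ := by ext; simp [σ', π]
  have hs : IsStemExtension σ' := FGS.isStemExtension_of_quotient hσ.1 hσ.2.1
    (QuotientGroup.mk'_surjective Z) hcomp (le_sup_of_le_right (le_inf le_rfl hσ.2.2))
  have hc : Nat.card σ'.ker * Nat.card Z = Nat.card σ.ker := by
    have hker : σ'.ker = σ.ker.map π := by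
      conv_rhs => rw [← hcomp, ← MonoidHom.comap_ker,
        Subgroup.map_comap_eq_self_of_surjective (QuotientGroup.mk'_surjective Z)]
    rw [hker, ← Subgroup.relIndex_ker, QuotientGroup.ker_mk', Subgroup.relIndex,
      ← Nat.card_congr (Subgroup.subgroupOfEquivOfLe h0).toEquiv, Subgroup.index_mul_card]
  have hτ : ∀ a, (j.comp σ') (π a) = (j.comp σ) a := fun _ => rfl
  let Y : ℕ → Subgroup (Γ ⧸ Z) := fun c =>
    Subgroup.closure {a | ∃ r, chevE6.IsPosRoot r ∧ E6.kap r = c ∧ ∃ t, a = π (y r t)}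
  have memY : ∀ {r}, chevE6.IsPosRoot r → ∀ t, π (y r t) ∈ Y (E6.kap r) := fun hr t =>
    Subgroup.subset_closure ⟨_, hr, rfl, t, rfl⟩
  have exY : ∀ {r}, chevE6.IsPosRoot r → ∀ a ∈ Y (E6.kap r), ∃ t, a = π (y r t) := by
    intro r hr a ha
    have y0 : y r 0 = 1 := by simpa using ys.add r hr.1 0 0
    induction ha using Subgroup.closure_induction with
    | mem a ha =>
      obtain ⟨s, hs, e, t, rfl⟩ := ha
      rcases List.mem_pair.1 ((E6.mem_ray S φ hφ hr s).2 ⟨hs, e⟩) with rfl | rfl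
      · exact ⟨t, rfl⟩
      · exact ⟨φ t, by rw [← ys.rho r hr.1, hφ, (rh_spec r hr.1).1]⟩
    | one => exact ⟨0, by rw [y0, map_one]⟩
    | mul a b _ _ ha hb =>
      obtain ⟨s, rfl⟩ := ha
      obtain ⟨t, rfl⟩ := hb
      exact ⟨s + t, by rw [ys.add r hr.1, map_mul]⟩
    | inv a _ ha =>
      obtain ⟨s, rfl⟩ := ha
      exact ⟨-s, inv_eq_of_mul_eq_one_right (by
        rw [← map_mul, ← ys.add r hr.1, add_neg_cancel, y0, map_one])⟩
  have ctr : (j.comp σ').ker ≤ Subgroup.center _ := ker σ' ▸ hs.2.1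
  have lifts : ∀ c, Lifts (j.comp σ') ⊥ ((E6.tw S φ hφ).ray E6.kap c) (Y c) := fun c => by
    by_cases hc : ∃ r, chevE6.IsPosRoot r ∧ E6.kap r = c
    · obtain ⟨r, hr, rfl⟩ := hc
      refine ⟨eq_bot_iff.2 fun a ha => ?_, Subgroup.ext fun a => ?_, fun a ha b hb => ?_⟩
      · obtain ⟨t, rfl⟩ := exY hr a ha.1
        rw [ys.inj r hr.1 t ((ys.map r hr.1 t).symm.trans ha.2), map_one]
        exact one_mem _
      · rw [mem_ray g hr]
        refine ⟨?_, ?_⟩
        · rintro ⟨a, ha, rfl⟩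
          obtain ⟨t, rfl⟩ := exY hr a ha
          exact ⟨t, ys.map r hr.1 t⟩
        · rintro ⟨t, rfl⟩
          exact ⟨_, memY hr t, ys.map r hr.1 t⟩
      · rwa [← Subgroup.mem_center_iff.1 (ctr ha) b, mul_inv_cancel_right]
    · have : Y c = ⊥ := eq_bot_iff.2 ((Subgroup.closure_le _).2 fun a ⟨r, h1, h2, _⟩ =>
        absurd ⟨r, h1, h2⟩ hc)
      rw [this, (E6.tw S φ hφ).ray_eq_bot hc]
      exact lifts_bot _
  have R := E6.isRay S φ hφ
  have h4 := biSup_inf_ker_eq_bot ctr bot_le R.btw (fun c _ => lifts c)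
    (fun a ha b hb => R.commutator_le ha hb) (fun a _ => R.inf_eq_bot a) fun a b hab hb => by
      by_cases ha : ∃ r, chevE6.IsPosRoot r ∧ E6.kap r = a
      · by_cases hb : ∃ r, chevE6.IsPosRoot r ∧ E6.kap r = b
        · obtain ⟨r, hr, rfl⟩ := ha
          obtain ⟨s, hs, rfl⟩ := hb
          refine .inr (.inr fun _ _ => Subgroup.commutator_le.2 fun a ha b hb => ?_)
          obtain ⟨t, rfl⟩ := exY hr a ha
          obtain ⟨u, rfl⟩ := exY hs b hb
          rw [← map_commutatorElement, ← Subgroup.mem_comap]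
          refine (sup_le (fun z hz => ?_) ((Subgroup.closure_le _).2 ?_) :
            _ ≤ Subgroup.comap π _) (ys.comm r hr.1 s hs.1 ((E6.pos_iff r hr.1).1 hr)
              ((E6.pos_iff s hs.1).1 hs) hab t u)
          · rw [Subgroup.mem_comap, show π z = 1 from (QuotientGroup.eq_one_iff z).2 hz]
            exact one_mem _
          · rintro _ ⟨k, k1, k2, k3, v, rfl⟩
            have hk := (E6.pos_iff k k1).2 k2
            exact le_biSup Y (Finset.mem_Ioo.2 ⟨max_lt (hab.trans k3) k3, R.lt k hk⟩) (memY hk v)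
        · exact .inr (.inl (by rw [(E6.tw S φ hφ).ray_eq_bot hb]; exact sepG_bot _ _))
      · exact .inl (by rw [(E6.tw S φ hφ).ray_eq_bot ha]; exact sepG_bot _ _)
  obtain ⟨P⟩ : Nonempty (Sylow 2 (twistedE6 K 2)) := inferInstance
  obtain ⟨c, hg⟩ := (E6.tw S φ hφ).data.exists_conj_le_U j hj hr 2 (S.isPGroup_U 2)
    (S.eq_one_of_pow 2) P.2
  have h5 : ((c • P : Sylow 2 _) : Subgroup _) ≤ (⨆ c ∈ Finset.range 36, Y c).map σ' := by
    rintro _ ⟨a, ha, rfl⟩
    have h6 := R.U_le ⟨hg a ha, hF ▸ (E6.tw S φ hφ).data.j_mem j hr _⟩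
    simp only [← fun c => (lifts c).map, ← Subgroup.map_iSup] at h6
    obtain ⟨y, hy, e⟩ := h6
    exact ⟨y, hy, hj e⟩
  have h6 := not_dvd_of_compl hs (ker σ' ▸ h4)
    fun k => (c • P).not_dvd_index (k.trans (Subgroup.index_dvd_of_le h5))
  have h7 := E6.pb S φ hφ hq hK' j hj hr 2 (by omega) _ (hk ▸ hc ▸ dvd_mul_right _ _)
    ((Nat.prime_two.coprime_iff_not_dvd).2 h6).symm
  have h8 := Nat.le_of_dvd (by omega) ys.card
  rw [← hk, ← hc]
  exact Nat.mul_le_mul h7 h8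

end Cfsg.Agent.Mult.E62
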